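import Cfsg.Agent.Lib.Leech.PSUCert

/-!
# Certificate data: a stabiliser of order 126000 in HS and PSU(3,5)
-/

set_option autoImplicit false

namespace Cfsg.Agent.Leech.PSU35

/-- The matrices, times eight. -/
def mats : List (List (List ℤ)) :=
  [[[ep6, ep0, ep0, ep0, ep2, ep0, ep0, ep0, ep2, ep0, ep0, ep2, ep0, ep2, ep2, ep0, ep0, ep2, ep0, ep0, ep0, ep0, ep0, em2], [ep0, ep2, ep2, ep2, ep0, ep2, ep2, em2, ep0, ep2, ep2, ep0, ep2, ep0, ep0, em2, em2, ep0, ep2, em2, em2, ep2, em2, ep0], [ep0, ep2, ep2, em2, ep0, em2, em2, ep2, ep0, em2, ep2, ep0, ep2, ep0, ep0, em2, ep2, ep0, ep2, em2, ep2, ep2, ep2, ep0], [ep2, ep0, ep0, ep0, ep6, ep0, ep0, ep0, em2, ep0, ep0, em2, ep0, em2, em2, ep0, ep0, em2, ep0, ep0, ep0, ep0, ep0, ep2], [ep0, ep2, ep2, ep2, ep0, ep2, em2, ep2, ep0, em2, em2, ep0, ep2, ep0, ep0, ep2, em2, ep0, ep2, ep2, ep2, em2, em2, ep0], [ep2, ep0, ep0, ep0, em2, ep0, ep0, ep0, em2,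 ep0, ep0, em2, ep0, em2, ep6, ep0, ep0, em2, ep0, ep0, ep0, ep0, ep0, ep2], [ep0, ep2, em2, em2, ep0, ep2, ep2, ep2, ep0, ep2, em2, ep0, ep2, ep0, ep0, ep2, ep2, ep0, em2, em2, ep2, ep2, em2, ep0], [ep0, ep2, ep2, ep2, ep0, ep2, ep2, ep2, ep0, em2, ep2, ep0, em2, ep0, ep0, ep2, ep2, ep0, em2, em2, em2, em2, ep2, ep0], [ep2, ep0, ep0, ep0, em2, ep0, ep0, ep0, em2, ep0, ep0, em2, ep0, em2, em2, ep0, ep0, ep6, ep0, ep0, ep0, ep0, ep0, ep2], [ep0, em2, ep2, em2, ep0, ep2, ep2, ep2, ep0, ep2, ep2, ep0, em2, ep0, ep0, em2, ep2, ep0, ep2, ep2, ep2, em2, em2, ep0], [ep0, ep2, em2, ep2, ep0, em2, ep2, ep2, ep0, ep2, ep2, ep0, ep2, ep0, ep0, em2, em2, ep0, em2, ep2, ep2, em2, ep2, ep0], [ep2, ep0, ep0, ep0, em2, ep0, ep0, ep0, em2, ep0, ep0, em2, ep0, ep6, em2, ep0, ep0, em2, ep0, ep0, ep0, ep0, ep0, ep2], [ep0, em2, ep2, ep2, ep0, em2, em2, ep2, ep0, ep2, ep2, ep0, ep2, ep0, ep0, ep2, ep2, ep0, em2,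 ep2, em2, ep2, em2, ep0], [ep0, ep2, ep2, em2, ep0, em2, ep2, em2, ep0, ep2, em2, ep0, ep2, ep0, ep0, ep2, ep2, ep0, ep2, ep2, em2, em2, ep2, ep0], [ep0, ep2, em2, em2, ep0, ep2, em2, ep2, ep0, ep2, ep2, ep0, em2, ep0, ep0, ep2, em2, ep0, ep2, ep2, em2, ep2, ep2, ep0], [ep0, ep2, ep2, ep2, ep0, ep2, em2, em2, ep0, ep2, em2, ep0, em2, ep0, ep0, em2, ep2, ep0, em2, ep2, ep2, ep2, ep2, ep0], [ep2, ep0, ep0, ep0, em2, ep0, ep0, ep0, em2, ep0, ep0, ep6, ep0, em2, em2, ep0, ep0, em2, ep0, ep0, ep0, ep0, ep0, ep2], [ep0, ep2, em2, ep2, ep0, em2, ep2, em2, ep0, em2, ep2, ep0, em2, ep0, ep0, ep2, ep2, ep0, ep2, ep2, ep2, ep2, em2, ep0], [ep0, em2, ep2, em2, ep0, ep2, ep2, em2, ep0, em2, ep2, ep0, ep2, ep0, ep0, ep2, em2, ep0, em2, ep2, ep2, ep2, ep2, ep0], [ep0, em2, em2, ep2, ep0, ep2, em2, em2, ep0, ep2, ep2, ep0, ep2, ep0, ep0, ep2, ep2, ep0, ep2, em2, ep2, em2, ep2, ep0], [ep0, em2, em2, ep2, ep0,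 ep2, ep2, ep2, ep0, em2, em2, ep0, ep2, ep0, ep0, em2, ep2, ep0, ep2, ep2, em2, ep2, ep2, ep0], [ep0, em2, ep2, ep2, ep0, em2, ep2, ep2, ep0, ep2, em2, ep0, em2, ep0, ep0, ep2, em2, ep0, ep2, em2, ep2, ep2, ep2, ep0], [ep2, ep0, ep0, ep0, em2, ep0, ep0, ep0, ep6, ep0, ep0, em2, ep0, em2, em2, ep0, ep0, em2, ep0, ep0, ep0, ep0, ep0, ep2], [em2, ep0, ep0, ep0, ep2, ep0, ep0, ep0, ep2, ep0, ep0, ep2, ep0, ep2, ep2, ep0, ep0, ep2, ep0, ep0, ep0, ep0, ep0, ep6]],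
   [[ep6, ep0, ep2, ep0, ep0, ep0, ep0, ep0, ep0, ep0, ep0, ep2, ep0, ep0, ep2, ep0, ep0, ep0, ep0, ep0, ep2, ep2, ep2, em2], [ep0, em2, ep0, ep2, ep2, ep2, ep2, ep2, ep2, ep2, ep2, ep0, ep2, em2, ep0, em2, ep2, em2, em2, em2, ep0, ep0, ep0, ep0], [ep0, ep2, ep0, ep2, ep2, em2, em2, em2, ep2, ep2, ep2, ep0, ep2, em2, ep0, ep2, em2, em2, ep2, ep2, ep0, ep0, ep0, ep0], [ep2, ep0, ep6, ep0, ep0, ep0, ep0, ep0, ep0, ep0, ep0, em2, ep0, ep0, em2, ep0, ep0, ep0, ep0, ep0, em2, em2, em2, ep2], [ep0, ep2, ep0, ep2, ep2, ep2, ep2, ep2, em2, em2, ep2, ep0, em2, em2, ep0, em2, em2, ep2, ep2, ep2, ep0, ep0, ep0, ep0], [ep0, em2, ep0, ep2, ep2, em2, ep2, ep2, ep2, ep2, em2, ep0, em2, ep2, ep0, ep2, em2, ep2, ep2, em2, ep0, ep0, ep0, ep0], [ep0, ep2, ep0, em2, em2, ep2, ep2, ep2, ep2, ep2, em2, ep0, ep2, ep2, ep0, em2, em2, em2, ep2, ep2, ep0, ep0, ep0, ep0], [ep0, ep2, ep0, ep2, ep2, em2, ep2, ep2, em2,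 em2, em2, ep0, ep2, ep2, ep0, ep2, ep2, em2, em2, ep2, ep0, ep0, ep0, ep0], [ep2, ep0, em2, ep0, ep0, ep0, ep0, ep0, ep0, ep0, ep0, em2, ep0, ep0, em2, ep0, ep0, ep0, ep0, ep0, em2, em2, ep6, ep2], [ep0, em2, ep0, ep2, em2, em2, ep2, em2, em2, ep2, ep2, ep0, ep2, ep2, ep0, em2, ep2, ep2, ep2, ep2, ep0, ep0, ep0, ep0], [ep0, ep2, ep0, ep2, em2, ep2, em2, ep2, em2, ep2, ep2, ep0, ep2, ep2, ep0, ep2, em2, ep2, em2, em2, ep0, ep0, ep0, ep0], [ep0, em2, ep0, em2, ep2, ep2, ep2, em2, ep2, em2, ep2, ep0, ep2, ep2, ep0, ep2, em2, ep2, em2, ep2, ep0, ep0, ep0, ep0], [ep0, ep2, ep0, em2, ep2, em2, em2, ep2, ep2, em2, ep2, ep0, ep2, ep2, ep0, em2, ep2, ep2, ep2, em2, ep0, ep0, ep0, ep0], [ep0, em2, ep0, em2, ep2, ep2, em2, ep2, em2, ep2, em2, ep0, ep2, em2, ep0, ep2, ep2, ep2, ep2, ep2, ep0, ep0, ep0, ep0], [ep2, ep0, em2, ep0, ep0, ep0, ep0, ep0, ep0, ep0, ep0, em2, ep0, ep0, em2, ep0, ep0, ep0, ep0,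 ep0, em2, ep6, em2, ep2], [ep2, ep0, em2, ep0, ep0, ep0, ep0, ep0, ep0, ep0, ep0, em2, ep0, ep0, ep6, ep0, ep0, ep0, ep0, ep0, em2, em2, em2, ep2], [ep0, ep2, ep0, ep2, em2, ep2, ep2, em2, ep2, em2, em2, ep0, ep2, em2, ep0, ep2, ep2, ep2, ep2, em2, ep0, ep0, ep0, ep0], [ep0, ep2, ep0, ep2, ep2, ep2, em2, em2, ep2, ep2, em2, ep0, em2, ep2, ep0, em2, ep2, ep2, em2, ep2, ep0, ep0, ep0, ep0], [ep2, ep0, em2, ep0, ep0, ep0, ep0, ep0, ep0, ep0, ep0, em2, ep0, ep0, em2, ep0, ep0, ep0, ep0, ep0, ep6, em2, em2, ep2], [ep0, ep2, ep0, em2, ep2, ep2, ep2, em2, em2, ep2, ep2, ep0, em2, ep2, ep0, ep2, ep2, em2, ep2, em2, ep0, ep0, ep0, ep0], [ep2, ep0, em2, ep0, ep0, ep0, ep0, ep0, ep0, ep0, ep0, ep6, ep0, ep0, em2, ep0, ep0, ep0, ep0, ep0, em2, em2, em2, ep2], [ep0, em2, ep0, ep2, em2, ep2, em2, ep2, ep2, em2, ep2, ep0, em2, ep2, ep0, ep2, ep2, em2, ep2, ep2, ep0, ep0, ep0, ep0], [ep0, ep2, ep0, em2, em2,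 em2, ep2, ep2, ep2, ep2, ep2, ep0, em2, em2, ep0, ep2, ep2, ep2, em2, ep2, ep0, ep0, ep0, ep0], [em2, ep0, ep2, ep0, ep0, ep0, ep0, ep0, ep0, ep0, ep0, ep2, ep0, ep0, ep2, ep0, ep0, ep0, ep0, ep0, ep2, ep2, ep2, ep6]],
   [[ep6, ep0, ep0, ep0, ep2, ep2, ep0, ep0, ep0, ep0, ep0, ep0, ep0, ep0, ep0, ep0, ep0, ep2, ep0, ep2, ep0, ep2, ep2, em2], [ep0, ep2, ep2, ep2, ep0, ep0, em2, em2, em2, em2, ep2, em2, ep2, ep2, ep2, ep2, ep2, ep0, ep2, ep0, em2, ep0, ep0, ep0], [ep0, ep2, ep2, ep2, ep0, ep0, ep2, ep2, em2, em2, ep2, ep2, em2, em2, ep2, em2, em2, ep0, ep2, ep0, ep2, ep0, ep0, ep0], [ep2, ep0, ep0, ep0, ep6, em2, ep0, ep0, ep0, ep0, ep0, ep0, ep0, ep0, ep0, ep0, ep0, em2, ep0, em2, ep0, em2, em2, ep2], [ep0, ep2, em2, ep2, ep0, ep0, em2, ep2, ep2, em2, ep2, ep2, ep2, em2, em2, ep2, ep2, ep0, em2, ep0, ep2, ep0, ep0, ep0], [ep2, ep0, ep0, ep0, em2, em2, ep0, ep0, ep0, ep0, ep0, ep0, ep0, ep0,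 ep0, ep0, ep0, em2, ep0, em2, ep0, ep6, em2, ep2], [ep2, ep0, ep0, ep0, em2, ep6, ep0, ep0, ep0, ep0, ep0, ep0, ep0, ep0, ep0, ep0, ep0, em2, ep0, em2, ep0, em2, em2, ep2], [ep0, ep2, ep2, ep2, ep0, ep0, ep2, ep2, ep2, ep2, em2, em2, ep2, em2, ep2, ep2, em2, ep0, em2, ep0, em2, ep0, ep0, ep0], [ep0, ep2, em2, ep2, ep0, ep0, ep2, em2, em2, ep2, em2, ep2, ep2, ep2, em2, ep2, em2, ep0, ep2, ep0, ep2, ep0, ep0, ep0], [ep2, ep0, ep0, ep0, em2, em2, ep0, ep0, ep0, ep0, ep0, ep0, ep0, ep0, ep0, ep0, ep0, em2, ep0, ep6, ep0, em2, em2, ep2], [ep0, em2, ep2, ep2, ep0, ep0, em2, ep2, ep2, ep2, ep2, em2, ep2, ep2, em2, em2, em2, ep0, ep2, ep0, ep2, ep0, ep0, ep0], [ep0, em2, em2, ep2, ep0, ep0, ep2, ep2, em2, ep2, ep2, em2, em2, ep2, ep2, ep2, ep2, ep0, em2, ep0, ep2, ep0, ep0, ep0], [ep0, ep2, ep2, em2, ep0, ep0, ep2, ep2, em2, ep2, ep2, ep2, ep2, ep2, em2, em2, ep2, ep0, em2, ep0, em2, ep0, ep0, ep0],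 [ep0, em2, em2, ep2, ep0, ep0, ep2, ep2, ep2, em2, em2, ep2, ep2, ep2, ep2, em2, ep2, ep0, ep2, ep0, em2, ep0, ep0, ep0], [ep0, ep2, em2, em2, ep0, ep0, em2, ep2, ep2, ep2, ep2, ep2, em2, ep2, ep2, ep2, em2, ep0, ep2, ep0, em2, ep0, ep0, ep0], [ep2, ep0, ep0, ep0, em2, em2, ep0, ep0, ep0, ep0, ep0, ep0, ep0, ep0, ep0, ep0, ep0, em2, ep0, em2, ep0, em2, ep6, ep2], [ep0, em2, ep2, em2, ep0, ep0, ep2, em2, ep2, em2, ep2, ep2, ep2, ep2, ep2, ep2, em2, ep0, em2, ep0, ep2, ep0, ep0, ep0], [ep0, ep2, em2, em2, ep0, ep0, ep2, em2, ep2, ep2, ep2, em2, ep2, em2, ep2, em2, ep2, ep0, ep2, ep0, ep2, ep0, ep0, ep0], [ep0, em2, ep2, em2, ep0, ep0, em2, ep2, em2, ep2, em2, ep2, ep2, em2, ep2, ep2, ep2, ep0, ep2, ep0, ep2, ep0, ep0, ep0], [ep2, ep0, ep0, ep0, em2, em2, ep0, ep0, ep0, ep0, ep0, ep0, ep0, ep0, ep0, ep0, ep0, ep6, ep0, em2, ep0, em2, em2, ep2], [ep0, em2, ep2, ep2, ep0, ep0, ep2, em2, ep2, ep2,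 ep2, ep2, em2, em2, em2, ep2, ep2, ep0, ep2, ep0, em2, ep0, ep0, ep0], [ep0, ep2, ep2, ep2, ep0, ep0, em2, em2, ep2, ep2, em2, ep2, em2, ep2, ep2, em2, ep2, ep0, em2, ep0, ep2, ep0, ep0, ep0], [ep0, ep2, ep2, em2, ep0, ep0, ep2, ep2, ep2, em2, em2, em2, em2, ep2, em2, ep2, ep2, ep0, ep2, ep0, ep2, ep0, ep0, ep0], [em2, ep0, ep0, ep0, ep2, ep2, ep0, ep0, ep0, ep0, ep0, ep0, ep0, ep0, ep0, ep0, ep0, ep2, ep0, ep2, ep0, ep2, ep2, ep6]],
   [[ep8, ep0, ep0, ep0, ep0, ep0, ep0, ep0, ep0, ep0, ep0, ep0, ep0, ep0, ep0, ep0, ep0, ep0, ep0, ep0, ep0, ep0, ep0, ep0], [ep0, ep8, ep0, ep0, ep0, ep0, ep0, ep0, ep0, ep0, ep0, ep0, ep0, ep0, ep0, ep0, ep0, ep0, ep0, ep0, ep0, ep0, ep0, ep0], [ep0, ep0, ep8, ep0, ep0, ep0, ep0, ep0, ep0, ep0, ep0, ep0, ep0, ep0, ep0, ep0, ep0, ep0, ep0, ep0, ep0, ep0, ep0, ep0], [ep0, ep0, ep0, ep8, ep0, ep0, ep0, ep0, ep0, ep0, ep0, ep0, ep0, ep0, ep0, ep0, ep0, ep0, ep0,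 ep0, ep0, ep0, ep0, ep0], [ep0, ep0, ep0, ep0, ep8, ep0, ep0, ep0, ep0, ep0, ep0, ep0, ep0, ep0, ep0, ep0, ep0, ep0, ep0, ep0, ep0, ep0, ep0, ep0], [ep0, ep0, ep0, ep0, ep0, ep8, ep0, ep0, ep0, ep0, ep0, ep0, ep0, ep0, ep0, ep0, ep0, ep0, ep0, ep0, ep0, ep0, ep0, ep0], [ep0, ep0, ep0, ep0, ep0, ep0, ep8, ep0, ep0, ep0, ep0, ep0, ep0, ep0, ep0, ep0, ep0, ep0, ep0, ep0, ep0, ep0, ep0, ep0], [ep0, ep0, ep0, ep0, ep0, ep0, ep0, ep8, ep0, ep0, ep0, ep0, ep0, ep0, ep0, ep0, ep0, ep0, ep0, ep0, ep0, ep0, ep0, ep0], [ep0, ep0, ep0, ep0, ep0, ep0, ep0, ep0, ep8, ep0, ep0, ep0, ep0, ep0, ep0, ep0, ep0, ep0, ep0, ep0, ep0, ep0, ep0, ep0], [ep0, ep0, ep0, ep0, ep0, ep0, ep0, ep0, ep0, ep8, ep0, ep0, ep0, ep0, ep0, ep0, ep0, ep0, ep0, ep0, ep0, ep0, ep0, ep0], [ep0, ep0, ep0, ep0, ep0, ep0, ep0, ep0, ep0, ep0, ep8, ep0, ep0, ep0, ep0, ep0, ep0, ep0, ep0, ep0, ep0, ep0, ep0, ep0], [ep0, ep0, ep0, ep0, ep0,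 ep0, ep0, ep0, ep0, ep0, ep0, ep8, ep0, ep0, ep0, ep0, ep0, ep0, ep0, ep0, ep0, ep0, ep0, ep0], [ep0, ep0, ep0, ep0, ep0, ep0, ep0, ep0, ep0, ep0, ep0, ep0, ep8, ep0, ep0, ep0, ep0, ep0, ep0, ep0, ep0, ep0, ep0, ep0], [ep0, ep0, ep0, ep0, ep0, ep0, ep0, ep0, ep0, ep0, ep0, ep0, ep0, ep8, ep0, ep0, ep0, ep0, ep0, ep0, ep0, ep0, ep0, ep0], [ep0, ep0, ep0, ep0, ep0, ep0, ep0, ep0, ep0, ep0, ep0, ep0, ep0, ep0, ep8, ep0, ep0, ep0, ep0, ep0, ep0, ep0, ep0, ep0], [ep0, ep0, ep0, ep0, ep0, ep0, ep0, ep0, ep0, ep0, ep0, ep0, ep0, ep0, ep0, ep8, ep0, ep0, ep0, ep0, ep0, ep0, ep0, ep0], [ep0, ep0, ep0, ep0, ep0, ep0, ep0, ep0, ep0, ep0, ep0, ep0, ep0, ep0, ep0, ep0, ep8, ep0, ep0, ep0, ep0, ep0, ep0, ep0], [ep0, ep0, ep0, ep0, ep0, ep0, ep0, ep0, ep0, ep0, ep0, ep0, ep0, ep0, ep0, ep0, ep0, ep8, ep0, ep0, ep0, ep0, ep0, ep0], [ep0, ep0, ep0, ep0, ep0, ep0, ep0, ep0, ep0, ep0, ep0, ep0, ep0, ep0, ep0,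 ep0, ep0, ep0, ep8, ep0, ep0, ep0, ep0, ep0], [ep0, ep0, ep0, ep0, ep0, ep0, ep0, ep0, ep0, ep0, ep0, ep0, ep0, ep0, ep0, ep0, ep0, ep0, ep0, ep8, ep0, ep0, ep0, ep0], [ep0, ep0, ep0, ep0, ep0, ep0, ep0, ep0, ep0, ep0, ep0, ep0, ep0, ep0, ep0, ep0, ep0, ep0, ep0, ep0, ep8, ep0, ep0, ep0], [ep0, ep0, ep0, ep0, ep0, ep0, ep0, ep0, ep0, ep0, ep0, ep0, ep0, ep0, ep0, ep0, ep0, ep0, ep0, ep0, ep0, ep8, ep0, ep0], [ep0, ep0, ep0, ep0, ep0, ep0, ep0, ep0, ep0, ep0, ep0, ep0, ep0, ep0, ep0, ep0, ep0, ep0, ep0, ep0, ep0, ep0, ep8, ep0], [ep0, ep0, ep0, ep0, ep0, ep0, ep0, ep0, ep0, ep0, ep0, ep0, ep0, ep0, ep0, ep0, ep0, ep0, ep0, ep0, ep0, ep0, ep0, ep8]],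
   [[ep6, ep0, ep0, ep0, ep0, ep0, ep0, ep0, ep0, ep0, ep2, ep2, ep0, ep2, ep0, ep0, ep2, ep0, ep2, ep0, ep2, ep0, ep0, em2], [ep0, ep2, ep2, ep2, em2, em2, ep2, ep2, ep2, ep2, ep0, ep0, ep2, ep0, ep2, ep2, ep0, em2, ep0, em2, ep0, em2, em2, ep0], [ep0, ep2, ep2, ep2, ep2, em2, em2, ep2, em2, ep2, ep0, ep0, em2, ep0, em2, ep2, ep0, ep2, ep0, ep2, ep0, em2, ep2, ep0], [ep0, ep2, ep2, ep2, ep2, ep2, ep2, em2, ep2, em2, ep0, ep0, ep2, ep0, em2, em2, ep0, em2, ep0, ep2, ep0, em2, ep2, ep0], [ep0, em2, ep2, ep2, ep2, ep2, ep2, ep2, em2, em2, ep0, ep0, ep2, ep0, em2, ep2, ep0, ep2, ep0, em2, ep0, ep2, em2, ep0], [ep0, em2, em2, ep2, ep2, ep2, em2, em2, ep2, ep2, ep0, ep0, ep2, ep0, ep2, ep2, ep0, ep2, ep0, em2, ep0, em2, ep2, ep0], [ep0, ep2, em2, ep2, ep2, em2, ep2, em2, ep2, em2, ep0, ep0, em2, ep0, ep2, ep2, ep0, ep2, ep0, ep2, ep0, ep2, em2, ep0], [ep0, ep2, ep2, em2, ep2, em2, em2, ep2, ep2,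 em2, ep0, ep0, ep2, ep0, ep2, em2, ep0, ep2, ep0, em2, ep0, ep2, ep2, ep0], [ep0, ep2, em2, ep2, em2, ep2, ep2, ep2, ep2, ep2, ep0, ep0, em2, ep0, em2, em2, ep0, ep2, ep0, em2, ep0, ep2, ep2, ep0], [ep0, ep2, ep2, em2, em2, ep2, em2, em2, ep2, ep2, ep0, ep0, ep2, ep0, em2, ep2, ep0, ep2, ep0, ep2, ep0, ep2, em2, ep0], [ep2, ep0, ep0, ep0, ep0, ep0, ep0, ep0, ep0, ep0, ep6, em2, ep0, em2, ep0, ep0, em2, ep0, em2, ep0, em2, ep0, ep0, ep2], [ep2, ep0, ep0, ep0, ep0, ep0, ep0, ep0, ep0, ep0, em2, em2, ep0, em2, ep0, ep0, ep6, ep0, em2, ep0, em2, ep0, ep0, ep2], [ep0, ep2, em2, ep2, ep2, ep2, em2, ep2, em2, ep2, ep0, ep0, ep2, ep0, ep2, em2, ep0, em2, ep0, ep2, ep0, ep2, em2, ep0], [ep2, ep0, ep0, ep0, ep0, ep0, ep0, ep0, ep0, ep0, em2, em2, ep0, ep6, ep0, ep0, em2, ep0, em2, ep0, em2, ep0, ep0, ep2], [ep0, ep2, em2, em2, em2, ep2, ep2, ep2, em2, em2, ep0, ep0, ep2, ep0, ep2, ep2, ep0, ep2, ep0,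 ep2, ep0, em2, ep2, ep0], [ep0, ep2, ep2, em2, ep2, ep2, ep2, em2, em2, ep2, ep0, ep0, em2, ep0, ep2, ep2, ep0, em2, ep0, em2, ep0, ep2, ep2, ep0], [ep2, ep0, ep0, ep0, ep0, ep0, ep0, ep0, ep0, ep0, em2, ep6, ep0, em2, ep0, ep0, em2, ep0, em2, ep0, em2, ep0, ep0, ep2], [ep0, em2, ep2, em2, ep2, ep2, ep2, ep2, ep2, ep2, ep0, ep0, em2, ep0, ep2, em2, ep0, ep2, ep0, ep2, ep0, em2, em2, ep0], [ep2, ep0, ep0, ep0, ep0, ep0, ep0, ep0, ep0, ep0, em2, em2, ep0, em2, ep0, ep0, em2, ep0, ep6, ep0, em2, ep0, ep0, ep2], [ep0, em2, ep2, ep2, em2, em2, ep2, em2, em2, ep2, ep0, ep0, ep2, ep0, ep2, em2, ep0, ep2, ep0, ep2, ep0, ep2, ep2, ep0], [ep2, ep0, ep0, ep0, ep0, ep0, ep0, ep0, ep0, ep0, em2, em2, ep0, em2, ep0, ep0, em2, ep0, em2, ep0, ep6, ep0, ep0, ep2], [ep0, em2, em2, em2, ep2, em2, ep2, ep2, ep2, ep2, ep0, ep0, ep2, ep0, em2, ep2, ep0, em2, ep0, ep2, ep0, ep2, ep2, ep0], [ep0, em2, ep2, ep2, em2,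 ep2, em2, ep2, ep2, em2, ep0, ep0, em2, ep0, ep2, ep2, ep0, em2, ep0, ep2, ep0, ep2, ep2, ep0], [em2, ep0, ep0, ep0, ep0, ep0, ep0, ep0, ep0, ep0, ep2, ep2, ep0, ep2, ep0, ep0, ep2, ep0, ep2, ep0, ep2, ep0, ep0, ep6]]]

/-- The transposed matrices. -/
def matsT : List (List (List ℤ)) :=
  [[[ep6, ep0, ep0, ep2, ep0, ep2, ep0, ep0, ep2, ep0, ep0, ep2, ep0, ep0, ep0, ep0, ep2, ep0, ep0, ep0, ep0, ep0, ep2, em2], [ep0, ep2, ep2, ep0, ep2, ep0, ep2, ep2, ep0, em2, ep2, ep0, em2, ep2, ep2, ep2, ep0, ep2, em2, em2, em2, em2, ep0, ep0], [ep0, ep2, ep2, ep0, ep2, ep0, em2, ep2, ep0, ep2, em2, ep0, ep2, ep2, em2, ep2, ep0, em2, ep2, em2, em2, ep2, ep0, ep0], [ep0, ep2, em2, ep0, ep2, ep0, em2, ep2, ep0, em2, ep2, ep0, ep2, em2, em2, ep2, ep0, ep2, em2, ep2, ep2, ep2, ep0, ep0], [ep2, ep0, ep0, ep6, ep0, em2, ep0, ep0, em2, ep0, ep0, em2, ep0, ep0, ep0, ep0, em2, ep0, ep0, ep0, ep0, ep0, em2, ep2], [ep0,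 ep2, em2, ep0, ep2, ep0, ep2, ep2, ep0, ep2, em2, ep0, em2, em2, ep2, ep2, ep0, em2, ep2, ep2, ep2, em2, ep0, ep0], [ep0, ep2, em2, ep0, em2, ep0, ep2, ep2, ep0, ep2, ep2, ep0, em2, ep2, em2, em2, ep0, ep2, ep2, em2, ep2, ep2, ep0, ep0], [ep0, em2, ep2, ep0, ep2, ep0, ep2, ep2, ep0, ep2, ep2, ep0, ep2, em2, ep2, em2, ep0, em2, em2, em2, ep2, ep2, ep0, ep0], [ep2, ep0, ep0, em2, ep0, em2, ep0, ep0, em2, ep0, ep0, em2, ep0, ep0, ep0, ep0, em2, ep0, ep0, ep0, ep0, ep0, ep6, ep2], [ep0, ep2, em2, ep0, em2, ep0, ep2, em2, ep0, ep2, ep2, ep0, ep2, ep2, ep2, ep2, ep0, em2, em2, ep2, em2, ep2, ep0, ep0], [ep0, ep2, ep2, ep0, em2, ep0, em2, ep2, ep0, ep2, ep2, ep0, ep2, em2, ep2, em2, ep0, ep2, ep2, ep2, em2, em2, ep0, ep0], [ep2, ep0, ep0, em2, ep0, em2, ep0, ep0, em2, ep0, ep0, em2, ep0, ep0, ep0, ep0, ep6, ep0, ep0, ep0, ep0, ep0, em2, ep2], [ep0, ep2, ep2, ep0, ep2, ep0, ep2, em2, ep0, em2, ep2,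 ep0, ep2, ep2, em2, em2, ep0, em2, ep2, ep2, ep2, em2, ep0, ep0], [ep2, ep0, ep0, em2, ep0, em2, ep0, ep0, em2, ep0, ep0, ep6, ep0, ep0, ep0, ep0, em2, ep0, ep0, ep0, ep0, ep0, em2, ep2], [ep2, ep0, ep0, em2, ep0, ep6, ep0, ep0, em2, ep0, ep0, em2, ep0, ep0, ep0, ep0, em2, ep0, ep0, ep0, ep0, ep0, em2, ep2], [ep0, em2, em2, ep0, ep2, ep0, ep2, ep2, ep0, em2, em2, ep0, ep2, ep2, ep2, em2, ep0, ep2, ep2, ep2, em2, ep2, ep0, ep0], [ep0, em2, ep2, ep0, em2, ep0, ep2, ep2, ep0, ep2, em2, ep0, ep2, ep2, em2, ep2, ep0, ep2, em2, ep2, ep2, em2, ep0, ep0], [ep2, ep0, ep0, em2, ep0, em2, ep0, ep0, ep6, ep0, ep0, em2, ep0, ep0, ep0, ep0, em2, ep0, ep0, ep0, ep0, ep0, em2, ep2], [ep0, ep2, ep2, ep0, ep2, ep0, em2, em2, ep0, ep2, em2, ep0, em2, ep2, ep2, em2, ep0, ep2, em2, ep2, ep2, ep2, ep0, ep0], [ep0, em2, em2, ep0, ep2, ep0, em2, em2, ep0, ep2, ep2, ep0, ep2, ep2, ep2, ep2, ep0, ep2, ep2, em2, ep2,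 em2, ep0, ep0], [ep0, em2, ep2, ep0, ep2, ep0, ep2, em2, ep0, ep2, ep2, ep0, em2, em2, em2, ep2, ep0, ep2, ep2, ep2, em2, ep2, ep0, ep0], [ep0, ep2, ep2, ep0, em2, ep0, ep2, em2, ep0, em2, em2, ep0, ep2, em2, ep2, ep2, ep0, ep2, ep2, em2, ep2, ep2, ep0, ep0], [ep0, em2, ep2, ep0, em2, ep0, em2, ep2, ep0, em2, ep2, ep0, em2, ep2, ep2, ep2, ep0, em2, ep2, ep2, ep2, ep2, ep0, ep0], [em2, ep0, ep0, ep2, ep0, ep2, ep0, ep0, ep2, ep0, ep0, ep2, ep0, ep0, ep0, ep0, ep2, ep0, ep0, ep0, ep0, ep0, ep2, ep6]],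
   [[ep6, ep0, ep0, ep2, ep0, ep0, ep0, ep0, ep2, ep0, ep0, ep0, ep0, ep0, ep2, ep2, ep0, ep0, ep2, ep0, ep2, ep0, ep0, em2], [ep0, em2, ep2, ep0, ep2, em2, ep2, ep2, ep0, em2, ep2, em2, ep2, em2, ep0, ep0, ep2, ep2, ep0, ep2, ep0, em2, ep2, ep0], [ep2, ep0, ep0, ep6, ep0, ep0, ep0, ep0, em2, ep0, ep0, ep0, ep0, ep0, em2, em2, ep0, ep0, em2, ep0, em2, ep0, ep0, ep2], [ep0, ep2, ep2, ep0, ep2, ep2, em2, ep2, ep0, ep2, ep2, em2, em2, em2, ep0, ep0, ep2, ep2, ep0, em2, ep0, ep2, em2, ep0], [ep0, ep2, ep2, ep0, ep2, ep2, em2, ep2, ep0, em2, em2, ep2, ep2, ep2, ep0, ep0, em2, ep2, ep0, ep2, ep0, em2, em2, ep0], [ep0, ep2, em2, ep0, ep2, em2, ep2, em2, ep0, em2, ep2, ep2, em2, ep2, ep0, ep0, ep2, ep2, ep0, ep2, ep0, ep2, em2, ep0], [ep0, ep2, em2, ep0, ep2, ep2, ep2, ep2, ep0, ep2, em2, ep2, em2, em2, ep0, ep0, ep2, em2, ep0, ep2, ep0, em2, ep2, ep0], [ep0, ep2, em2, ep0, ep2, ep2, ep2, ep2, ep0,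 em2, ep2, em2, ep2, ep2, ep0, ep0, em2, em2, ep0, em2, ep0, ep2, ep2, ep0], [ep0, ep2, ep2, ep0, em2, ep2, ep2, em2, ep0, em2, em2, ep2, ep2, em2, ep0, ep0, ep2, ep2, ep0, em2, ep0, ep2, ep2, ep0], [ep0, ep2, ep2, ep0, em2, ep2, ep2, em2, ep0, ep2, ep2, em2, em2, ep2, ep0, ep0, em2, ep2, ep0, ep2, ep0, em2, ep2, ep0], [ep0, ep2, ep2, ep0, ep2, em2, em2, em2, ep0, ep2, ep2, ep2, ep2, em2, ep0, ep0, em2, em2, ep0, ep2, ep0, ep2, ep2, ep0], [ep2, ep0, ep0, em2, ep0, ep0, ep0, ep0, em2, ep0, ep0, ep0, ep0, ep0, em2, em2, ep0, ep0, em2, ep0, ep6, ep0, ep0, ep2], [ep0, ep2, ep2, ep0, em2, em2, ep2, ep2, ep0, ep2, ep2, ep2, ep2, ep2, ep0, ep0, ep2, em2, ep0, em2, ep0, em2, em2, ep0], [ep0, em2, em2, ep0, em2, ep2, ep2, ep2, ep0, ep2, ep2, ep2, ep2, em2, ep0, ep0, em2, ep2, ep0, ep2, ep0, ep2, em2, ep0], [ep2, ep0, ep0, em2, ep0, ep0, ep0, ep0, em2, ep0, ep0, ep0, ep0, ep0, em2, ep6, ep0, ep0, em2,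 ep0, em2, ep0, ep0, ep2], [ep0, em2, ep2, ep0, em2, ep2, em2, ep2, ep0, em2, ep2, ep2, em2, ep2, ep0, ep0, ep2, em2, ep0, ep2, ep0, ep2, ep2, ep0], [ep0, ep2, em2, ep0, em2, em2, em2, ep2, ep0, ep2, em2, em2, ep2, ep2, ep0, ep0, ep2, ep2, ep0, ep2, ep0, ep2, ep2, ep0], [ep0, em2, em2, ep0, ep2, ep2, em2, em2, ep0, ep2, ep2, ep2, ep2, ep2, ep0, ep0, ep2, ep2, ep0, em2, ep0, em2, ep2, ep0], [ep0, em2, ep2, ep0, ep2, ep2, ep2, em2, ep0, ep2, em2, em2, ep2, ep2, ep0, ep0, ep2, em2, ep0, ep2, ep0, ep2, em2, ep0], [ep0, em2, ep2, ep0, ep2, em2, ep2, ep2, ep0, ep2, em2, ep2, em2, ep2, ep0, ep0, em2, ep2, ep0, em2, ep0, ep2, ep2, ep0], [ep2, ep0, ep0, em2, ep0, ep0, ep0, ep0, em2, ep0, ep0, ep0, ep0, ep0, em2, em2, ep0, ep0, ep6, ep0, em2, ep0, ep0, ep2], [ep2, ep0, ep0, em2, ep0, ep0, ep0, ep0, em2, ep0, ep0, ep0, ep0, ep0, ep6, em2, ep0, ep0, em2, ep0, em2, ep0, ep0, ep2], [ep2, ep0, ep0, em2, ep0,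 ep0, ep0, ep0, ep6, ep0, ep0, ep0, ep0, ep0, em2, em2, ep0, ep0, em2, ep0, em2, ep0, ep0, ep2], [em2, ep0, ep0, ep2, ep0, ep0, ep0, ep0, ep2, ep0, ep0, ep0, ep0, ep0, ep2, ep2, ep0, ep0, ep2, ep0, ep2, ep0, ep0, ep6]],
   [[ep6, ep0, ep0, ep2, ep0, ep2, ep2, ep0, ep0, ep2, ep0, ep0, ep0, ep0, ep0, ep2, ep0, ep0, ep0, ep2, ep0, ep0, ep0, em2], [ep0, ep2, ep2, ep0, ep2, ep0, ep0, ep2, ep2, ep0, em2, em2, ep2, em2, ep2, ep0, em2, ep2, em2, ep0, em2, ep2, ep2, ep0], [ep0, ep2, ep2, ep0, em2, ep0, ep0, ep2, em2, ep0, ep2, em2, ep2, em2, em2, ep0, ep2, em2, ep2, ep0, ep2, ep2, ep2, ep0], [ep0, ep2, ep2, ep0, ep2, ep0, ep0, ep2, ep2, ep0, ep2, ep2, em2, ep2, em2, ep0, em2, em2, em2, ep0, ep2, ep2, em2, ep0], [ep2, ep0, ep0, ep6, ep0, em2, em2, ep0, ep0, em2, ep0, ep0, ep0, ep0, ep0, em2, ep0, ep0, ep0, em2, ep0, ep0, ep0, ep2], [ep2, ep0, ep0, em2, ep0, em2, ep6, ep0, ep0, em2, ep0, ep0, ep0, ep0,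 ep0, em2, ep0, ep0, ep0, em2, ep0, ep0, ep0, ep2], [ep0, em2, ep2, ep0, em2, ep0, ep0, ep2, ep2, ep0, em2, ep2, ep2, ep2, em2, ep0, ep2, ep2, em2, ep0, ep2, em2, ep2, ep0], [ep0, em2, ep2, ep0, ep2, ep0, ep0, ep2, em2, ep0, ep2, ep2, ep2, ep2, ep2, ep0, em2, em2, ep2, ep0, em2, em2, ep2, ep0], [ep0, em2, em2, ep0, ep2, ep0, ep0, ep2, em2, ep0, ep2, em2, em2, ep2, ep2, ep0, ep2, ep2, em2, ep0, ep2, ep2, ep2, ep0], [ep0, em2, em2, ep0, em2, ep0, ep0, ep2, ep2, ep0, ep2, ep2, ep2, em2, ep2, ep0, em2, ep2, ep2, ep0, ep2, ep2, em2, ep0], [ep0, ep2, ep2, ep0, ep2, ep0, ep0, em2, em2, ep0, ep2, ep2, ep2, em2, ep2, ep0, ep2, ep2, em2, ep0, ep2, em2, em2, ep0], [ep0, em2, ep2, ep0, ep2, ep0, ep0, em2, ep2, ep0, em2, em2, ep2, ep2, ep2, ep0, ep2, em2, ep2, ep0, ep2, ep2, em2, ep0], [ep0, ep2, em2, ep0, ep2, ep0, ep0, ep2, ep2, ep0, ep2, em2, ep2, ep2, em2, ep0, ep2, ep2, ep2, ep0, em2, em2, em2, ep0],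 [ep0, ep2, em2, ep0, em2, ep0, ep0, em2, ep2, ep0, ep2, ep2, ep2, ep2, ep2, ep0, ep2, em2, em2, ep0, em2, ep2, ep2, ep0], [ep0, ep2, ep2, ep0, em2, ep0, ep0, ep2, em2, ep0, em2, ep2, em2, ep2, ep2, ep0, ep2, ep2, ep2, ep0, em2, ep2, em2, ep0], [ep0, ep2, em2, ep0, ep2, ep0, ep0, ep2, ep2, ep0, em2, ep2, em2, em2, ep2, ep0, ep2, em2, ep2, ep0, ep2, em2, ep2, ep0], [ep0, ep2, em2, ep0, ep2, ep0, ep0, em2, em2, ep0, em2, ep2, ep2, ep2, em2, ep0, em2, ep2, ep2, ep0, ep2, ep2, ep2, ep0], [ep2, ep0, ep0, em2, ep0, em2, em2, ep0, ep0, em2, ep0, ep0, ep0, ep0, ep0, em2, ep0, ep0, ep0, ep6, ep0, ep0, ep0, ep2], [ep0, ep2, ep2, ep0, em2, ep0, ep0, em2, ep2, ep0, ep2, em2, em2, ep2, ep2, ep0, em2, ep2, ep2, ep0, ep2, em2, ep2, ep0], [ep2, ep0, ep0, em2, ep0, em2, em2, ep0, ep0, ep6, ep0, ep0, ep0, ep0, ep0, em2, ep0, ep0, ep0, em2, ep0, ep0, ep0, ep2], [ep0, em2, ep2, ep0, ep2, ep0, ep0, em2, ep2, ep0,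 ep2, ep2, em2, em2, em2, ep0, ep2, ep2, ep2, ep0, em2, ep2, ep2, ep0], [ep2, ep0, ep0, em2, ep0, ep6, em2, ep0, ep0, em2, ep0, ep0, ep0, ep0, ep0, em2, ep0, ep0, ep0, em2, ep0, ep0, ep0, ep2], [ep2, ep0, ep0, em2, ep0, em2, em2, ep0, ep0, em2, ep0, ep0, ep0, ep0, ep0, ep6, ep0, ep0, ep0, em2, ep0, ep0, ep0, ep2], [em2, ep0, ep0, ep2, ep0, ep2, ep2, ep0, ep0, ep2, ep0, ep0, ep0, ep0, ep0, ep2, ep0, ep0, ep0, ep2, ep0, ep0, ep0, ep6]],
   [[ep8, ep0, ep0, ep0, ep0, ep0, ep0, ep0, ep0, ep0, ep0, ep0, ep0, ep0, ep0, ep0, ep0, ep0, ep0, ep0, ep0, ep0, ep0, ep0], [ep0, ep8, ep0, ep0, ep0, ep0, ep0, ep0, ep0, ep0, ep0, ep0, ep0, ep0, ep0, ep0, ep0, ep0, ep0, ep0, ep0, ep0, ep0, ep0], [ep0, ep0, ep8, ep0, ep0, ep0, ep0, ep0, ep0, ep0, ep0, ep0, ep0, ep0, ep0, ep0, ep0, ep0, ep0, ep0, ep0, ep0, ep0, ep0], [ep0, ep0, ep0, ep8, ep0, ep0, ep0, ep0, ep0, ep0, ep0, ep0, ep0, ep0, ep0, ep0, ep0, ep0, ep0,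 ep0, ep0, ep0, ep0, ep0], [ep0, ep0, ep0, ep0, ep8, ep0, ep0, ep0, ep0, ep0, ep0, ep0, ep0, ep0, ep0, ep0, ep0, ep0, ep0, ep0, ep0, ep0, ep0, ep0], [ep0, ep0, ep0, ep0, ep0, ep8, ep0, ep0, ep0, ep0, ep0, ep0, ep0, ep0, ep0, ep0, ep0, ep0, ep0, ep0, ep0, ep0, ep0, ep0], [ep0, ep0, ep0, ep0, ep0, ep0, ep8, ep0, ep0, ep0, ep0, ep0, ep0, ep0, ep0, ep0, ep0, ep0, ep0, ep0, ep0, ep0, ep0, ep0], [ep0, ep0, ep0, ep0, ep0, ep0, ep0, ep8, ep0, ep0, ep0, ep0, ep0, ep0, ep0, ep0, ep0, ep0, ep0, ep0, ep0, ep0, ep0, ep0], [ep0, ep0, ep0, ep0, ep0, ep0, ep0, ep0, ep8, ep0, ep0, ep0, ep0, ep0, ep0, ep0, ep0, ep0, ep0, ep0, ep0, ep0, ep0, ep0], [ep0, ep0, ep0, ep0, ep0, ep0, ep0, ep0, ep0, ep8, ep0, ep0, ep0, ep0, ep0, ep0, ep0, ep0, ep0, ep0, ep0, ep0, ep0, ep0], [ep0, ep0, ep0, ep0, ep0, ep0, ep0, ep0, ep0, ep0, ep8, ep0, ep0, ep0, ep0, ep0, ep0, ep0, ep0, ep0, ep0, ep0, ep0, ep0], [ep0, ep0, ep0, ep0, ep0,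 ep0, ep0, ep0, ep0, ep0, ep0, ep8, ep0, ep0, ep0, ep0, ep0, ep0, ep0, ep0, ep0, ep0, ep0, ep0], [ep0, ep0, ep0, ep0, ep0, ep0, ep0, ep0, ep0, ep0, ep0, ep0, ep8, ep0, ep0, ep0, ep0, ep0, ep0, ep0, ep0, ep0, ep0, ep0], [ep0, ep0, ep0, ep0, ep0, ep0, ep0, ep0, ep0, ep0, ep0, ep0, ep0, ep8, ep0, ep0, ep0, ep0, ep0, ep0, ep0, ep0, ep0, ep0], [ep0, ep0, ep0, ep0, ep0, ep0, ep0, ep0, ep0, ep0, ep0, ep0, ep0, ep0, ep8, ep0, ep0, ep0, ep0, ep0, ep0, ep0, ep0, ep0], [ep0, ep0, ep0, ep0, ep0, ep0, ep0, ep0, ep0, ep0, ep0, ep0, ep0, ep0, ep0, ep8, ep0, ep0, ep0, ep0, ep0, ep0, ep0, ep0], [ep0, ep0, ep0, ep0, ep0, ep0, ep0, ep0, ep0, ep0, ep0, ep0, ep0, ep0, ep0, ep0, ep8, ep0, ep0, ep0, ep0, ep0, ep0, ep0], [ep0, ep0, ep0, ep0, ep0, ep0, ep0, ep0, ep0, ep0, ep0, ep0, ep0, ep0, ep0, ep0, ep0, ep8, ep0, ep0, ep0, ep0, ep0, ep0], [ep0, ep0, ep0, ep0, ep0, ep0, ep0, ep0, ep0, ep0, ep0, ep0, ep0, ep0, ep0,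 ep0, ep0, ep0, ep8, ep0, ep0, ep0, ep0, ep0], [ep0, ep0, ep0, ep0, ep0, ep0, ep0, ep0, ep0, ep0, ep0, ep0, ep0, ep0, ep0, ep0, ep0, ep0, ep0, ep8, ep0, ep0, ep0, ep0], [ep0, ep0, ep0, ep0, ep0, ep0, ep0, ep0, ep0, ep0, ep0, ep0, ep0, ep0, ep0, ep0, ep0, ep0, ep0, ep0, ep8, ep0, ep0, ep0], [ep0, ep0, ep0, ep0, ep0, ep0, ep0, ep0, ep0, ep0, ep0, ep0, ep0, ep0, ep0, ep0, ep0, ep0, ep0, ep0, ep0, ep8, ep0, ep0], [ep0, ep0, ep0, ep0, ep0, ep0, ep0, ep0, ep0, ep0, ep0, ep0, ep0, ep0, ep0, ep0, ep0, ep0, ep0, ep0, ep0, ep0, ep8, ep0], [ep0, ep0, ep0, ep0, ep0, ep0, ep0, ep0, ep0, ep0, ep0, ep0, ep0, ep0, ep0, ep0, ep0, ep0, ep0, ep0, ep0, ep0, ep0, ep8]],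
   [[ep6, ep0, ep0, ep0, ep0, ep0, ep0, ep0, ep0, ep0, ep2, ep2, ep0, ep2, ep0, ep0, ep2, ep0, ep2, ep0, ep2, ep0, ep0, em2], [ep0, ep2, ep2, ep2, em2, em2, ep2, ep2, ep2, ep2, ep0, ep0, ep2, ep0, ep2, ep2, ep0, em2, ep0, em2, ep0, em2, em2, ep0], [ep0, ep2, ep2, ep2, ep2, em2, em2, ep2, em2, ep2, ep0, ep0, em2, ep0, em2, ep2, ep0, ep2, ep0, ep2, ep0, em2, ep2, ep0], [ep0, ep2, ep2, ep2, ep2, ep2, ep2, em2, ep2, em2, ep0, ep0, ep2, ep0, em2, em2, ep0, em2, ep0, ep2, ep0, em2, ep2, ep0], [ep0, em2, ep2, ep2, ep2, ep2, ep2, ep2, em2, em2, ep0, ep0, ep2, ep0, em2, ep2, ep0, ep2, ep0, em2, ep0, ep2, em2, ep0], [ep0, em2, em2, ep2, ep2, ep2, em2, em2, ep2, ep2, ep0, ep0, ep2, ep0, ep2, ep2, ep0, ep2, ep0, em2, ep0, em2, ep2, ep0], [ep0, ep2, em2, ep2, ep2, em2, ep2, em2, ep2, em2, ep0, ep0, em2, ep0, ep2, ep2, ep0, ep2, ep0, ep2, ep0, ep2, em2, ep0], [ep0, ep2, ep2, em2, ep2, em2, em2, ep2, ep2,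 em2, ep0, ep0, ep2, ep0, ep2, em2, ep0, ep2, ep0, em2, ep0, ep2, ep2, ep0], [ep0, ep2, em2, ep2, em2, ep2, ep2, ep2, ep2, ep2, ep0, ep0, em2, ep0, em2, em2, ep0, ep2, ep0, em2, ep0, ep2, ep2, ep0], [ep0, ep2, ep2, em2, em2, ep2, em2, em2, ep2, ep2, ep0, ep0, ep2, ep0, em2, ep2, ep0, ep2, ep0, ep2, ep0, ep2, em2, ep0], [ep2, ep0, ep0, ep0, ep0, ep0, ep0, ep0, ep0, ep0, ep6, em2, ep0, em2, ep0, ep0, em2, ep0, em2, ep0, em2, ep0, ep0, ep2], [ep2, ep0, ep0, ep0, ep0, ep0, ep0, ep0, ep0, ep0, em2, em2, ep0, em2, ep0, ep0, ep6, ep0, em2, ep0, em2, ep0, ep0, ep2], [ep0, ep2, em2, ep2, ep2, ep2, em2, ep2, em2, ep2, ep0, ep0, ep2, ep0, ep2, em2, ep0, em2, ep0, ep2, ep0, ep2, em2, ep0], [ep2, ep0, ep0, ep0, ep0, ep0, ep0, ep0, ep0, ep0, em2, em2, ep0, ep6, ep0, ep0, em2, ep0, em2, ep0, em2, ep0, ep0, ep2], [ep0, ep2, em2, em2, em2, ep2, ep2, ep2, em2, em2, ep0, ep0, ep2, ep0, ep2, ep2, ep0, ep2, ep0,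 ep2, ep0, em2, ep2, ep0], [ep0, ep2, ep2, em2, ep2, ep2, ep2, em2, em2, ep2, ep0, ep0, em2, ep0, ep2, ep2, ep0, em2, ep0, em2, ep0, ep2, ep2, ep0], [ep2, ep0, ep0, ep0, ep0, ep0, ep0, ep0, ep0, ep0, em2, ep6, ep0, em2, ep0, ep0, em2, ep0, em2, ep0, em2, ep0, ep0, ep2], [ep0, em2, ep2, em2, ep2, ep2, ep2, ep2, ep2, ep2, ep0, ep0, em2, ep0, ep2, em2, ep0, ep2, ep0, ep2, ep0, em2, em2, ep0], [ep2, ep0, ep0, ep0, ep0, ep0, ep0, ep0, ep0, ep0, em2, em2, ep0, em2, ep0, ep0, em2, ep0, ep6, ep0, em2, ep0, ep0, ep2], [ep0, em2, ep2, ep2, em2, em2, ep2, em2, em2, ep2, ep0, ep0, ep2, ep0, ep2, em2, ep0, ep2, ep0, ep2, ep0, ep2, ep2, ep0], [ep2, ep0, ep0, ep0, ep0, ep0, ep0, ep0, ep0, ep0, em2, em2, ep0, em2, ep0, ep0, em2, ep0, em2, ep0, ep6, ep0, ep0, ep2], [ep0, em2, em2, em2, ep2, em2, ep2, ep2, ep2, ep2, ep0, ep0, ep2, ep0, em2, ep2, ep0, em2, ep0, ep2, ep0, ep2, ep2, ep0], [ep0, em2, ep2, ep2, em2,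 ep2, em2, ep2, ep2, em2, ep0, ep0, em2, ep0, ep2, ep2, ep0, em2, ep0, ep2, ep0, ep2, ep2, ep0], [em2, ep0, ep0, ep0, ep0, ep0, ep0, ep0, ep0, ep0, ep2, ep2, ep0, ep2, ep0, ep0, ep2, ep0, ep2, ep0, ep2, ep0, ep0, ep6]]]

/-- The packed columns. -/
def cols : List (List ℤ) :=
  [[-5954257151002078087951228217626284020389601116953307338333456972502203607006294863164006411017647373173435315954567000686998059425925693434, -5415375660834397951902899511202521340407022014664263324781552423123214677376189454456880528502838786633523525423688383297748992, 5415365331825035102719442267722763576482632697735177111854855728963422628681069557421157175131367548824746670177277105466769408, 5415375660834397942508738139086157148214085762613981834129717467715864523398092540592380886992060728439105964794728772018372608, 5954257151002078087951228217626284020389601116953307338333456972502203607006294863164006411017647373173435315954567000696221431462780469250,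 -5415365331825035093325280895606399367993408635009006931055455266281047186291225494218017155932200584214839445748382630561185792, 5415375660824547450353809850378420291598828340989526350384848525438215519507669608209088336712044638644769506072062950698385408, 5415375660824547440959630560304118668824071494731214183377489543677003167448626668620269373935545742804617195028537152590839808, 5954279864712212325666557883995280520531299668245828817022840769070928001984048406849110354487982178284859089783367196505058482382226587650, 5415365331834885594874370556430500424949753984704667840086025572851185265455629632459144253270516326542843531909279178511351808, -5415375660824547440959630560304118676972207629401000312178788596854031983979221572216294915528302526771843415336570643118292992, 5954257151002078087951228217626284020389618204849594705614116132675852963423211684800185264239806949506297893712373245811398243122621186050,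 -5415365331825035093325280895606399376141560311015109478266945202139113517151925811801797796069966919257534334623922040384520192, 5954257151002078087951228217626284020389601116953307338333456972502203620486268196739326308351154916683250652773139211957284299977730818050, 5954257151002078087951228217626284020389601116953307338333456972502203607006294863164006411017647373173435326095771802512833271399551336450, 5415365331834885604268549846504802039576374696293193878292085501422513284370041419320491110848752920402789936301513199329476608, -5415365331825035102719442267722763568334496563065390968918780157559319163224130320943522267452698061079327456810148050283528192, 5954257151002078087951228217626284020389601116953307338333456972502203607006294863164006422709660471820658661584045662417262216673386037250, 5415375660834397942508738139086157140065949627959017078616018369313122651928157761042739707478640149273033167180272028308471808,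 -5415365331834885594874370556430500416801602308683743891317382645738971707493365334533611604336212835048736642493939115823726592, 5415365331834885604268549846504802047724510830948158619671008081598180531433560519842744658009813230195616678756717925507268608, 5415375660824547450353809850378420299746980016995628911731114979523356474774785604797955864003640619919174731834223608733892608, 5415375660834397951902899511202521348555173690685187259415418832008353586412109419523104556549760197490973140052598835021611008, 17862794166716368501569014319247848561310518990048730860970413874248984585893528288388621938770957143121630992039563117839063766740519354366],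
   [-5954262829429611642215560878040018880947644016284632764134970695350603624250077865096306508475255496496889493741626221250732449046189834234, 5678422118188932507625320409588621415468674548859396273838198189055983217241961327306697203024746027700572910984003421857699235627008, 5954262829429611642215560878040018880947644016284632764134970695350603624250077865096306508475255496496889493741626221259955821083044610050, -5678422118188932507625320409579662427956015188333526182546531298460264664189783163209217915470723686199072548402393409663304195899392, -5678432948929925157207864088661449442350919855563588740229479286624737630593120790622917289952795875477377954956937961572336708616192, -5678422118188932497774818860481042624886255163297622723865902769648926503427385241625258085346001523189952449408329325335653847662592, 5678422118188932507625320409579662436499963332017166504715917344561977501954746008871963390106167521977202844381117986006989702955008,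 5678432948929925157207864088661449433806971711879948418060093240523024792828157944960171826467724638974700444219304913681838986231808, 5678432948929925157207864088670408421319631072405818509351760131132223306358407074883062406079187457818406978395295568613228998033408, 5678422118188932507625320409588621406924726405175755951668798008177752152402374075228272712152042438837626017328908657789354490462208, 5678432948929925167058365637760069236876731736915851861919334346957889939373482045396406378484744997734079269309283964461900059639808, 5954262829429611662873559902735287598194997392308727758772617037984391726895352717421487484609985053534052319982728872737957824828169781250, -5678432948929925167058365637769028215845442953758081631041601056675377414730556343379212043719500144867114715584706312403834101563392, -5678422118188932497774818860481042633430203306981263060856676238127112355409421908435728826938763930118404964394470733243088101179392,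 5954262829429611642215560878040018880947644016300929051945646584040751189757352890384718255624582986501978617336461271648839142695657013250, 5678432948929925167058365637760069245420679880599492198910107815436075791355518712206877131227880003937984550193703786988455285751808, 5678432948929925167058365637769028224389391097441721968032388659930081493787241936534015666921628637708270999092434222481003520196608, 5678422118188932497774818860490001612398914523823492829978957082634598044030224806732123074511719117964952010483921240450504440414208, -5678422118188932497774818860490001603854966380139852492988169479379893964973539213577319462459963224378966083270820074568508759867392, 5678432948929925157207864088670408412775682928722178187182359950253992241518819822804637926356856468210630460377640662574124769476608, 5954262829429611642215560878058807221609834682107748608909285391569609084641344424061964836247513168697806361289335813237810598670445314050,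 5954262829429611642215560878040018880947644016284632779676321833156436191605773119684457761614510208914005663756125499161966730687857819650, 5954262829429611642215560878040018880947644016284632764134970695350603624250077865096306520167268595144112839371104882980996606293650178050, 17862788488288834947304681658834113700752476090717405435168900151400584568649745286456321841313349019798176814252503897275329377120255213566],
   [-5954262829429611647380055708967758596115128491866422959921573104547851348667303538026313628862866041701792716735370255845723943933197680634, 5678432948924760662376936348955240928300101138534162252931378975006535483235165394019812601454774368111549082257552296912041445163008, 5678432948935089661889293377475236729896261670787508118339715503070097789163148406362322686716020871369430164003616086246716560375808, -5678422118183768002943900514945165223256244291557864053076078542729077799060982696879373798054507502233504367691192239392370607521792,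 5954262829429611647380055708967758596115128491866422959921573104547851348667303538026313628862866041701792716735370255854947315970052456450, 5954262829429611647380055708967758596115128491866422959921573104547851348667303538026313628862866041712426540701649582828954400415440437250, 5678422118194097002456238755133457804611344781125025050741076728961503449355699083087524275146260904702719723927701915736456988459008, 5678422118183768002943900514936206235743584931031993961784411652133359258864308886853816725986554498726616405726471870710328493867008, 5678432948935089661889283983313864613532061329715121413093469337536043979071122958330629272575199847170792803513257842821565469687808, -5678422118183768002943891120765875148954621516785476458447478990402695129736491901315341216393559026895411220359875741748201093332992, -5678432948924760662376945743116613044664301479606548972998998428140544080469640256783552277466026809641003634846816320491666687393792,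 -5678422118183768002943891120774834119379384589944065890578972231655476739300609206456931851914758321155972339236225083073621752020992, -5678432948935089661889283983304905626019401969189251306980415024563852411801858713121097779802619468467300243881077077623085929070592, 5678432948924760662376936348946281957875338065375572820799885733767233859860127762847477677812781627917107346098690635163685783339008, -5678422118194097002456238755124498817098685420599154944628022415975831921608363872052581479165867449391709421933281371468005629755392, 5678422118194097002456248149294829920975545122212953107125114592286394727627676015992351000651372425200196588415712977501876710801408, 5678432948935089661889293377484195700321024743946097565292596166699352400088847438544043311969708864837371098656459650915527775223808, 5954262829429611647380075409970856793354734631386473031728475644417486581390637512173015751723751790307098423868497698303544347247192834050,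 5678422118194097002456248149303788891400308195371542554077995255902169378075304082348660322697247342060619761363503649284241498308608, 5954262829429611647380055708967758596115128491866422959921573104547851348667303538038573593189793152568659492952572729314673856910666498050, 5678432948924760662376945743125572032176960840132419064290665318749742606855393740778365061413186367214010998871837482602432779255808, 5954262829429611647380055708967758596115128491866422959921573104547851348667303538026313628862866041701792726876575057671559155906823323650, 5954262829429611647380055708967758596115128491882719247732248993237998914174578563314725376012193531706881840330205306243830637582664859650, 17862788488288834942140186827906373985584991615135615239382297742203336844232519613526314720925738474593273591258759862680337882233247367166],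
   [8, 8388608, 8796093022208, 9223372036854775808, 9671406556917033397649408, 10141204801825835211973625643008, 10633823966279326983230456482242756608, 11150372599265311570767859136324180752990208, 11692013098647223345629478661730264157247460343808, 12259964326927110866866776217202473468949912977468817408, 12855504354071922204335696738729300820177623950262342682411008, 13479973333575319897333507543509815336818572211270286240551805124608, 14134776518227074636666380005943348126619871175004951664972849610340958208, 14821387422376473014217086081112052205218558037201992197050570753012880593911808, 15541351137805832567355695254588151253139254712417116170014499277911234281641667985408, 16296287810675888690147565507275025288411747149327490005089123594835050398106693649467179008, 17087896287367280659160173649356416916821636178853222159576332862577757806245124400183696695492608, 17917957937422433684459538244547554224973163977877196279199912807710334969441287563047019946172856926208,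 18788340662190665823115844774314696219005460391266558965658327772257672200916867547709591987078149624255479808, 19701003098197239606139520050071806902539869635232723333974146702122860885748605305707133127442457820403313995153408, 20657999024695268717247353376024094994637646342633788102645274852325180976134729557037162826241102651487225375781979947008, 21661481985318866090456360813617841433097164651373566993519371723551728967231450179999800047688590453885868835635965404913860608, 22713710134237715329666368996500141698551292521478689383796568724394977753543685103943470334805111423773828800195818060422956300894208, 23817051317718446589520242536874132581700120107002038199303870846751188192899823151552628349788604516295066307994130118526061826166445047808],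
   [-5954262829429611642215560878040018880947639744314634998152808956584330720873341128114963777837885153239883192083980547615592150322108170234, -5678432948929925167058365637769028220117412951524063792780367329578754151467537686109849414062757151168772361258341452702558183227392, 5678422118188932507625320409588621411196704551085643443941215643675646013115704406240497547038355584451036620068878425269689236062208, 5678422118188932507625320409579662432227985186099508336874603860168664907151433805441008435982270377909210156012593970168855797956608, -5678422118188932507625320409579662432227985186107279012443499709064083641241415677859738555219843742529684757512339152858199088955392, 5678422118188932497774818860490001608126944526057510668240190809731221307293243464001485704168462111663294364810286100151780358750208, -5678422118188932497774818860481042629158225161063604885604669042552303240164366584355895455689258529491610095081964465634377929326592,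 5678432948929925157207864088670408417047652926495931017079342495634329445645076743870837582343236277636200471965782428705652534673408, 5678432948929925157207864088670408417047652926488160341510432511962392484480470465036428446868403159920768058316434666153846880862208, -5678422118188932497774818860481042629158225161071375561173564891447721974254336196810298647815975661159833783106639709156296246689792, 5954262829429611642215560878040018880947639744314634998152808956584330720873353983619317849760089488936621921384800725239542412664790581250, 5954262829429611642215560878040018880947656832210922365433468116757980077290257949751142631060044729572745769841786792739992334018803662850, -5678422118188932497774818860490001608126944526049739992671280826059284346128624925202749641582762127161503543885634329111782848724992, 5954262829429611642215560878040018880947639744314634998152823777971753097346355345201044889890090371797920394076177598186345163202702082050,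 5678422118188932507625320409588621411196704551093414119510125627347582974280310685074906682513199336000576508175628696564121267601408, 5678432948929925157207864088661449438078949857797606585901406724916337387631470148391126769441249183777381561819969793204588231262208, 5954262829429611642215560878040018880947639744314634998152808956584330734353314461690283675171392696749698528902552758885878390873913294850, -5678432948929925157207864088661449438078949857789835910332510876020918653541488275972396650203665185322799466520008987920959581192192, 5954262829429611642215560878058807221609830410137750842927123652803336181264607687080622105610142825440800059631690139602670299946363650050, 5678432948929925167058365637769028220117412951531834468349277313250691112632156224908585476648467769484388247036744062078827005739008, 5954262829429611662873559902735287598194993120338729992790455299218118823518615980440144753972614710277046018325083199102817526104088117250,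 5678432948929925167058365637760069241148709882825739361602445693637280320528567757021836568757916499781928300691957355320558808465408, 5678432948929925167058365637760069241148709882833510037171341542532699054618537369476239760884622997636326904520068646689731204087808, 17862788488288834947304681658834113700752480362687403201151061890166857472026482023437664571950719363055183115910149570910469675844336877566]]

/-- The packed columns of the transposes. -/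
def colsT : List (List ℤ) :=
  [[-5954262829429611647380060634218533140945540542394901124825741660752594752654494092106469949092927783863134821024521420647486817659665776634, -5678422118194097007381489529678288216661873259297699894866177321260909373999748851862157529015128744651266283790186468303582676385792, 5678432948935089656964042602930406317845733192622603949783510759666110598609068250042092624973859529265141012838814323372990092279808, 5954262829429611647380060634218533140945540542394901124825741660752594752654494092106469949092927783863134821024531092054043734693063426050, -5678432948924760657451685574401451545824809587202897969264077295496333214366110627182299617665429630150095059757541207203723232673792, 5954262829429611647380060634218533140945540542394901140367092798558427320010189346694621202232182496280250991039020698558721099301333762050, -5678422118183768007869151289489995626762816477895222561518538031478820280357358972273751646132203715553237891317562159911328171425792,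 5678422118183767998018640346221044736904101186764477620424925609593225076014265087348620823530161196666283320896435065069850442334208, 5954262829429611647380060634218533158863498479817334809285279905300148977627658069983666228292840591573469790465808983694506763832522702850, -5678432948924760657451685574401451537280869591663162977628342611989137500577496769801141607573041933693858925646977093253622023585792, 5678422118194097007381489529678288208117916967470154227341752490188206398041363196770099322879310198400919616607300378291634394103808, 5954262829429611647380060634218533140945540542394901124825756482140017129127508309192551061145133002421172023016718471218239830540259688450, -5678422118194096997530997374749999500381068500356637933419920107913781244368696034664427465868576591665195210897664808410202287112192, 5678422118183768007869151289489995635306772769722768229042976997328041483390393553710142722727026382274943045252565403142346514628608,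 5678432948924760667302196517670402435683541174621453586246379864947435693734492923854579778907849837436097240798751380275004815966208, 5678432948935089666814534757858695025582581659736120243705329007164017512351594391695836323150397178145219227453127669030262048555008, 5954262829429611647380060634218533140945540542394901124825741660752594766134467425681789846426435327372950157843093631917773058211470901250, -5678422118183767998018640346221044728360144894936931952900500778520522087200375078184640413058635277862669554208932570967040371720192, 5678432948935089666814534757858695017038641664196385252069594323656821811418484888386600517393716854242250192847161512426948901470208, 5678422118194096997530997374749999508925024792184183600944359073763002460257234970172740746799085363292234905683317994819117916356608, 5678432948924760667302196517670402444227481170161188577882128683231149621742226833579494600901800548257990357209896790271433069559808,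 5678432948935089656964042602930406309301793197082868958147761941382396657745829986245255598644222713537913355577037416942738245419008, 5954262829429611647380060634218533140945540542394901124825741660752594752654494092106469960784940882510358166654000082377750974907126120450, 17862788488288834942140181902655599440754579564607137074478129185998593440245329059446158400695676732431931486969608697878575008506779271166],
   [-5954257150996662712290398744929852750874362584563081136446029000687330935679393609602910207382694524542964902659317478300904882758421053434, -4925255471638954934413721402130392696757631495181783224250393647576966332579256534867552444905191064639514913800192, 4925255471629995955445010185288162920224671074269319255117988649095313817512791073142996960566334136895612290859008, 5954257150996662712290398744929852750874362584563081136446029000687330935679393609602910207382694524542964902659317478300904891554514075650,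 4925255471638954934413713253986487351402592710210793086056958578183326673968014957619118871227560601058274661367808, -4925246077459664868656038622905510754512303322434578442736673573496454634615097456380451848365309164992162999304192, 4925255471629995955445002037144257589691019711674802118286135306741804159784410794367254754090234695775839697502208, 4925246077459664868656046771049416099867342107405568580930108642890094304376722266718163281809197775643136499908608, 5954279864706796950005728411298849251016061135855602615135412797256055330657147153288014150853029329654388676488117674118965305714721947650, 4925255471638954942957661397670127688393380313465497165113644171338130286019770851194963583967429374811263318622208, -4925255471629995963988950180827897911860405757776514956051085892440222696158615164093715072025805350670393348718592, 4925246077468623839080809844208005539409529059839846710935981328644890284134396684323884988904814930492047656747008,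 -4925246077459664860112098627365775762876554504150864501873435309699617608285460640653224191103532258561911152443392, 4925255471638954942957669545814033018927031676060014289089993159619717750562826990516857745835580613832810753425408, 5954257151018324194275717611020309111687980425996178301097402567680850307402945338570141657562694324590653493113203347136540848163334914050, 5954257150996662712290398744929852750874362584563081151987380138493163503035088864191061460521949236960081072673816756212139164400089038850, -4925246077459664860112090479221870432342903141556347377897086321418030154892766466772675330347654258953058770747392, 4925246077468623847624749839747740531045263743347042411869090831954126089891077008226854023510781087095360803831808, 5954257150996662732948397769625121468121715960587176131083675343321119038324668461928091183517424081580127728900420129788130258540401000450, -4925246077468623839080801696064100194054490274868856559887041905179328421187447734512043101249344894062975455854592,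 5954257150996662712290398744929852750874362584563081136446029000687330949159366943178230104716202068052780239477889689571191123310226178050, 4925255471629995963988958328971803257215444542747505107100025315905784570255926079346902241450753959422167516971008, 4925246077468623847624757987891645861578915105941559548700944174307635758769840520091874070410307114706726140510208, 17862794166721783877229843791944279830825757522438957062857841846063857257220429541949718142405909991752101405334812640225156943408023994366],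
   [-5954257150996662717454893575852895376396809909333483949924168174692938742125504981719098638519367838705078314248953643783783239827838730234, -5164499756169120094146286405572098869807657659585899003365710094551814776055959026776730208200333436877343413235762593792, 5164499756178514264477381738483656799965490576598318017239197429074766614463347282177071030708507393043479415344079044608, 5954257150996662717454893575852895376396809909333483949924168174692938742125504981719098638519367838705078314248963315190340156861236379650, 5164499756169120094146294949528390697353325184024864852586925983078490320042312846418635059022825749061579909173931409408, 5954257151018324199440212441943351737210427750766581114575541741686458113849056710686330088699367638752766904702839512619419205232752590850, 5954257150996662717454893575852895376396809909333483949924168174692938742125504981719098638519367838705078324390158445609618451801464373250,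 -5164499756178514264477390282431800475835151998475937600006315321141820970530896748222346290937334354509643792063913787392, 5164499756178514264477381738491804936100160362741254092810601532540223553699813766712150434884682044397710211422416273408, 5954257150996662717454913276855993573636416048853534021731070714562573974848838955865800761380253587310384021382081086241603643141833883650, 5164499756178514264477381738483656792194822418396180303316983780860534773265510542307661962815773553678573892364148932608, 5164499756169120094146294949528390705124008163614424929502180514815743340285774372203132768306386901195902117460110737408, -5164499756178514264477381738491804943870828520943391793252841847179135509256156061708333687622043007239363194615750459392, -5164499756169120094146286405580247013712995603930972779379367368160537731078959043357508248785210566966913306398757486592, -5164499756169120094146294949520242553447987239679791063093295375894447455993781037308219070678326978112323302827011080192,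 5954279864706796955170223242221891876538508460626005428613551971261663137103258525404202581989702643816502088077753839601843662784139624450, 5164499756169120094146286405580247021483678583534667646292822308097517076026957448558797735474625070297808849117074423808, 5164499756178514264477390282431800483605820156692210076966782710429659270420109502222650015033182069468449994327308894208, 5164499756178514264477390282439948627511158101037283866460400462109348050854423876989103928447382001063492189880171102208, 5954257150996662717454893575852895394314767846755917634383706419240492967098668959596294917719280646415413283690241206830803186000695656450, -5164499756169120094146286405572098877578340639189593856799191700913474211978436789810347188475417740224458101672579694592, 5164499756169120094146294949520242561218670219269351153488523241207020385262763205239121638443659676263965452430221508608, 5164499756178514264477390282439948619740489942821011376019959739246189865323716678136842037128720063547894360794682359808,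 17862794166721783872065348961021237205303310197668554249379702672058249450774318169833529711269236677589987993745176474742278586338606317566],
   [8, 8388608, 8796093022208, 9223372036854775808, 9671406556917033397649408, 10141204801825835211973625643008, 10633823966279326983230456482242756608, 11150372599265311570767859136324180752990208, 11692013098647223345629478661730264157247460343808, 12259964326927110866866776217202473468949912977468817408, 12855504354071922204335696738729300820177623950262342682411008, 13479973333575319897333507543509815336818572211270286240551805124608, 14134776518227074636666380005943348126619871175004951664972849610340958208, 14821387422376473014217086081112052205218558037201992197050570753012880593911808, 15541351137805832567355695254588151253139254712417116170014499277911234281641667985408, 16296287810675888690147565507275025288411747149327490005089123594835050398106693649467179008,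 17087896287367280659160173649356416916821636178853222159576332862577757806245124400183696695492608, 17917957937422433684459538244547554224973163977877196279199912807710334969441287563047019946172856926208, 18788340662190665823115844774314696219005460391266558965658327772257672200916867547709591987078149624255479808, 19701003098197239606139520050071806902539869635232723333974146702122860885748605305707133127442457820403313995153408, 20657999024695268717247353376024094994637646342633788102645274852325180976134729557037162826241102651487225375781979947008, 21661481985318866090456360813617841433097164651373566993519371723551728967231450179999800047688590453885868835635965404913860608, 22713710134237715329666368996500141698551292521478689383796568724394977753543685103943470334805111423773828800195818060422956300894208, 23817051317718446589520242536874132581700120107002038199303870846751188192899823151552628349788604516295066307994130118526061826166445047808],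
   [-5954262829429611642215560878040018880947639744314634998152808956584330720873341128114963777837885153239883192083980547615592150322108170234, -5678432948929925167058365637769028220117412951524063792780367329578754151467537686109849414062757151168772361258341452702558183227392, 5678422118188932507625320409588621411196704551085643443941215643675646013115704406240497547038355584451036620068878425269689236062208, 5678422118188932507625320409579662432227985186099508336874603860168664907151433805441008435982270377909210156012593970168855797956608, -5678422118188932507625320409579662432227985186107279012443499709064083641241415677859738555219843742529684757512339152858199088955392, 5678422118188932497774818860490001608126944526057510668240190809731221307293243464001485704168462111663294364810286100151780358750208, -5678422118188932497774818860481042629158225161063604885604669042552303240164366584355895455689258529491610095081964465634377929326592,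 5678432948929925157207864088670408417047652926495931017079342495634329445645076743870837582343236277636200471965782428705652534673408, 5678432948929925157207864088670408417047652926488160341510432511962392484480470465036428446868403159920768058316434666153846880862208, -5678422118188932497774818860481042629158225161071375561173564891447721974254336196810298647815975661159833783106639709156296246689792, 5954262829429611642215560878040018880947639744314634998152808956584330720873353983619317849760089488936621921384800725239542412664790581250, 5954262829429611642215560878040018880947656832210922365433468116757980077290257949751142631060044729572745769841786792739992334018803662850, -5678422118188932497774818860490001608126944526049739992671280826059284346128624925202749641582762127161503543885634329111782848724992, 5954262829429611642215560878040018880947639744314634998152823777971753097346355345201044889890090371797920394076177598186345163202702082050,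 5678422118188932507625320409588621411196704551093414119510125627347582974280310685074906682513199336000576508175628696564121267601408, 5678432948929925157207864088661449438078949857797606585901406724916337387631470148391126769441249183777381561819969793204588231262208, 5954262829429611642215560878040018880947639744314634998152808956584330734353314461690283675171392696749698528902552758885878390873913294850, -5678432948929925157207864088661449438078949857789835910332510876020918653541488275972396650203665185322799466520008987920959581192192, 5954262829429611642215560878058807221609830410137750842927123652803336181264607687080622105610142825440800059631690139602670299946363650050, 5678432948929925167058365637769028220117412951531834468349277313250691112632156224908585476648467769484388247036744062078827005739008, 5954262829429611662873559902735287598194993120338729992790455299218118823518615980440144753972614710277046018325083199102817526104088117250,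 5678432948929925167058365637760069241148709882825739361602445693637280320528567757021836568757916499781928300691957355320558808465408, 5678432948929925167058365637760069241148709882833510037171341542532699054618537369476239760884622997636326904520068646689731204087808, 17862788488288834947304681658834113700752480362687403201151061890166857472026482023437664571950719363055183115910149570910469675844336877566]]

/-- The images of the generators. -/
def imgs : List (List (List ℤ)) :=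
  [[[ep4, ep0, ep0, ep0, ep0, ep0, ep0, ep0, ep0, ep0, ep0, ep0, ep0, ep0, ep0, ep0, ep0, ep0, ep0, ep0, ep0, ep0, ep0, em4], [ep1, ep1, ep1, em1, ep1, em1, ep1, ep1, em1, em1, ep1, em1, em1, ep1, ep1, ep1, em1, ep1, em1, em1, em1, em1, em1, em3], [ep1, ep1, ep1, em1, ep1, em1, em1, ep1, em1, ep1, em1, em1, ep1, ep1, em1, ep1, em1, em1, ep1, em1, em1, ep1, em1, em3], [ep1, ep1, em1, em1, ep1, em1, em1, ep1, em1, em1, ep1, em1, ep1, em1, em1, ep1, em1, ep1, em1, ep1, ep1, ep1, em1, em3], [ep2, ep0, ep0, ep2, ep0, em2, ep0, ep0, em2, ep0, ep0, em2, ep0, ep0, ep0, ep0, em2, ep0, ep0, ep0, ep0, ep0, em2, em2], [ep1, ep1, em1, em1, ep1, em1, ep1, ep1, em1, ep1, em1, em1, em1, em1, ep1, ep1, em1, em1, ep1, ep1, ep1, em1, em1, em3], [ep1, ep1, em1, em1, em1, em1, ep1, ep1, em1, ep1, ep1, em1, em1, ep1, em1, em1, em1, ep1, ep1, em1, ep1, ep1, em1, em3], [ep1, em1, ep1, em1, ep1, em1, ep1, ep1, em1,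 ep1, ep1, em1, ep1, em1, ep1, em1, em1, em1, em1, em1, ep1, ep1, em1, em3], [ep2, ep0, ep0, em2, ep0, em2, ep0, ep0, em2, ep0, ep0, em2, ep0, ep0, ep0, ep0, em2, ep0, ep0, ep0, ep0, ep0, ep2, em2], [ep1, ep1, em1, em1, em1, em1, ep1, em1, em1, ep1, ep1, em1, ep1, ep1, ep1, ep1, em1, em1, em1, ep1, em1, ep1, em1, em3], [ep1, ep1, ep1, em1, em1, em1, em1, ep1, em1, ep1, ep1, em1, ep1, em1, ep1, em1, em1, ep1, ep1, ep1, em1, em1, em1, em3], [ep2, ep0, ep0, em2, ep0, em2, ep0, ep0, em2, ep0, ep0, em2, ep0, ep0, ep0, ep0, ep2, ep0, ep0, ep0, ep0, ep0, em2, em2], [ep1, ep1, ep1, em1, ep1, em1, ep1, em1, em1, em1, ep1, em1, ep1, ep1, em1, em1, em1, em1, ep1, ep1, ep1, em1, em1, em3], [ep2, ep0, ep0, em2, ep0, em2, ep0, ep0, em2, ep0, ep0, ep2, ep0, ep0, ep0, ep0, em2, ep0, ep0, ep0, ep0, ep0, em2, em2], [ep2, ep0, ep0, em2, ep0, ep2, ep0, ep0, em2, ep0, ep0, em2, ep0, ep0, ep0, ep0, em2, ep0, ep0,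 ep0, ep0, ep0, em2, em2], [ep1, em1, em1, em1, ep1, em1, ep1, ep1, em1, em1, em1, em1, ep1, ep1, ep1, em1, em1, ep1, ep1, ep1, em1, ep1, em1, em3], [ep1, em1, ep1, em1, em1, em1, ep1, ep1, em1, ep1, em1, em1, ep1, ep1, em1, ep1, em1, ep1, em1, ep1, ep1, em1, em1, em3], [ep2, ep0, ep0, em2, ep0, em2, ep0, ep0, ep2, ep0, ep0, em2, ep0, ep0, ep0, ep0, em2, ep0, ep0, ep0, ep0, ep0, em2, em2], [ep1, ep1, ep1, em1, ep1, em1, em1, em1, em1, ep1, em1, em1, em1, ep1, ep1, em1, em1, ep1, em1, ep1, ep1, ep1, em1, em3], [ep1, em1, em1, em1, ep1, em1, em1, em1, em1, ep1, ep1, em1, ep1, ep1, ep1, ep1, em1, ep1, ep1, em1, ep1, em1, em1, em3], [ep1, em1, ep1, em1, ep1, em1, ep1, em1, em1, ep1, ep1, em1, em1, em1, em1, ep1, em1, ep1, ep1, ep1, em1, ep1, em1, em3], [ep1, ep1, ep1, em1, em1, em1, ep1, em1, em1, em1, em1, em1, ep1, em1, ep1, ep1, em1, ep1, ep1, em1, ep1, ep1, em1, em3], [ep1, em1, ep1, em1, em1,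 em1, em1, ep1, em1, em1, ep1, em1, em1, ep1, ep1, ep1, em1, em1, ep1, ep1, ep1, ep1, em1, em3], [ep0, ep0, ep0, ep0, ep0, ep0, ep0, ep0, ep0, ep0, ep0, ep0, ep0, ep0, ep0, ep0, ep0, ep0, ep0, ep0, ep0, ep0, ep0, ep0], [em2, ep0, ep0, ep2, ep0, ep2, ep0, ep0, ep2, ep0, ep0, ep2, ep0, ep0, ep0, ep0, ep2, ep0, ep0, ep0, ep0, ep0, ep2, ep6], [ep3, ep1, ep1, em1, ep1, em1, ep1, ep1, em1, ep1, ep1, em1, ep1, ep1, ep1, ep1, em1, ep1, ep1, ep1, ep1, ep1, em1, em1], [ep2, ep0, ep2, ep0, ep0, ep2, ep0, ep0, ep2, ep0, ep0, ep0, ep0, ep2, ep0, ep0, ep0, ep0, ep0, ep2, ep2, ep0, ep0, ep2], [ep1, em1, ep1, em1, ep1, ep1, ep1, ep1, em1, em1, ep1, ep1, ep1, ep3, ep1, ep1, em1, ep1, ep1, ep1, ep1, em1, em1, ep1], [ep0, ep0, ep2, ep0, ep2, ep0, ep0, ep0, ep0, ep0, ep0, ep2, ep0, ep2, ep0, ep0, ep0, ep0, ep2, ep2, ep0, ep2, ep0, ep2], [ep1, ep1, ep1, em1, ep1, em1, em1, em1, ep1, em1, ep1, ep1, ep1, ep1, ep1,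 ep1, em1, ep1, ep1, ep1, ep3, ep1, em1, ep1], [ep1, em1, ep1, ep1, ep1, em1, ep1, em1, ep1, ep1, ep1, ep1, ep1, ep1, em1, ep1, em1, ep1, ep1, ep1, ep1, em1, em1, ep3], [ep1, ep1, ep1, em1, ep1, ep1, ep1, em1, ep1, ep1, em1, ep1, em1, em1, ep1, ep1, em1, ep1, ep1, ep1, ep1, ep1, em1, ep3], [ep0, ep0, ep0, ep0, ep0, ep2, ep0, ep0, ep0, ep0, ep0, ep0, ep0, ep2, ep2, ep0, ep0, ep2, ep2, ep0, ep2, ep2, ep0, ep2], [ep1, em1, ep1, em1, ep3, ep1, ep1, em1, ep1, ep1, ep1, em1, ep1, ep1, ep1, em1, em1, ep1, ep1, ep1, ep1, ep1, em1, ep1], [ep1, em1, ep1, em1, ep1, em1, ep1, em1, em1, ep1, em1, ep1, ep1, ep1, ep1, ep1, em1, ep3, ep1, ep1, ep1, ep1, ep1, ep1], [ep1, em1, ep1, em1, em1, ep1, ep1, em1, ep1, ep1, ep1, em1, ep1, ep1, ep1, ep3, em1, ep1, ep1, ep1, ep1, ep1, em1, ep1], [ep0, ep0, ep2, ep0, ep0, ep2, ep2, ep0, ep0, ep0, ep0, ep0, ep2, ep0, ep0, ep0, ep0, ep2, ep2, ep2, ep0, ep0, ep0, ep2], [ep1,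 em1, ep1, em1, em1, em1, ep1, ep1, ep1, em1, em1, ep1, ep1, ep1, ep1, ep1, ep1, ep1, ep1, ep1, ep1, ep1, em1, ep3]],
   [[ep4, ep0, ep0, ep0, ep0, ep0, ep0, ep0, ep0, ep0, ep0, ep0, ep0, ep0, ep0, ep0, ep0, ep0, ep0, ep0, ep0, ep0, ep0, em4], [ep1, em1, ep1, em1, ep1, em1, ep1, ep1, em1, em1, ep1, em1, ep1, em1, em1, em1, ep1, ep1, em1, ep1, em1, em1, ep1, em3], [ep2, ep0, ep0, ep2, ep0, ep0, ep0, ep0, em2, ep0, ep0, ep0, ep0, ep0, em2, em2, ep0, ep0, em2, ep0, em2, ep0, ep0, em2], [ep1, ep1, ep1, em1, ep1, ep1, em1, ep1, em1, ep1, ep1, em1, em1, em1, em1, em1, ep1, ep1, em1, em1, em1, ep1, em1, em3], [ep1, ep1, ep1, em1, ep1, ep1, em1, ep1, em1, em1, em1, ep1, ep1, ep1, em1, em1, em1, ep1, em1, ep1, em1, em1, em1, em3], [ep1, ep1, em1, em1, ep1, em1, ep1, em1, em1, em1, ep1, ep1, em1, ep1, em1, em1, ep1, ep1, em1, ep1, em1, ep1, em1, em3], [ep1, ep1, em1, em1, ep1, ep1, ep1, ep1, em1, ep1,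 em1, ep1, em1, em1, em1, em1, ep1, em1, em1, ep1, em1, em1, ep1, em3], [ep1, ep1, em1, em1, ep1, ep1, ep1, ep1, em1, em1, ep1, em1, ep1, ep1, em1, em1, em1, em1, em1, em1, em1, ep1, ep1, em3], [ep1, ep1, ep1, em1, em1, ep1, ep1, em1, em1, em1, em1, ep1, ep1, em1, em1, em1, ep1, ep1, em1, em1, em1, ep1, ep1, em3], [ep1, ep1, ep1, em1, em1, ep1, ep1, em1, em1, ep1, ep1, em1, em1, ep1, em1, em1, em1, ep1, em1, ep1, em1, em1, ep1, em3], [ep1, ep1, ep1, em1, ep1, em1, em1, em1, em1, ep1, ep1, ep1, ep1, em1, em1, em1, em1, em1, em1, ep1, em1, ep1, ep1, em3], [ep2, ep0, ep0, em2, ep0, ep0, ep0, ep0, em2, ep0, ep0, ep0, ep0, ep0, em2, em2, ep0, ep0, em2, ep0, ep2, ep0, ep0, em2], [ep1, ep1, ep1, em1, em1, em1, ep1, ep1, em1, ep1, ep1, ep1, ep1, ep1, em1, em1, ep1, em1, em1, em1, em1, em1, em1, em3], [ep1, em1, em1, em1, em1, ep1, ep1, ep1, em1, ep1, ep1, ep1, ep1, em1, em1, em1, em1, ep1, em1, ep1,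 em1, ep1, em1, em3], [ep2, ep0, ep0, em2, ep0, ep0, ep0, ep0, em2, ep0, ep0, ep0, ep0, ep0, em2, ep2, ep0, ep0, em2, ep0, em2, ep0, ep0, em2], [ep1, em1, ep1, em1, em1, ep1, em1, ep1, em1, em1, ep1, ep1, em1, ep1, em1, em1, ep1, em1, em1, ep1, em1, ep1, ep1, em3], [ep1, ep1, em1, em1, em1, em1, em1, ep1, em1, ep1, em1, em1, ep1, ep1, em1, em1, ep1, ep1, em1, ep1, em1, ep1, ep1, em3], [ep1, em1, em1, em1, ep1, ep1, em1, em1, em1, ep1, ep1, ep1, ep1, ep1, em1, em1, ep1, ep1, em1, em1, em1, em1, ep1, em3], [ep1, em1, ep1, em1, ep1, ep1, ep1, em1, em1, ep1, em1, em1, ep1, ep1, em1, em1, ep1, em1, em1, ep1, em1, ep1, em1, em3], [ep1, em1, ep1, em1, ep1, em1, ep1, ep1, em1, ep1, em1, ep1, em1, ep1, em1, em1, em1, ep1, em1, em1, em1, ep1, ep1, em3], [ep2, ep0, ep0, em2, ep0, ep0, ep0, ep0, em2, ep0, ep0, ep0, ep0, ep0, em2, em2, ep0, ep0, ep2, ep0, em2, ep0, ep0, em2], [ep2, ep0, ep0, em2, ep0, ep0,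 ep0, ep0, em2, ep0, ep0, ep0, ep0, ep0, ep2, em2, ep0, ep0, em2, ep0, em2, ep0, ep0, em2], [ep2, ep0, ep0, em2, ep0, ep0, ep0, ep0, ep2, ep0, ep0, ep0, ep0, ep0, em2, em2, ep0, ep0, em2, ep0, em2, ep0, ep0, em2], [ep0, ep0, ep0, ep0, ep0, ep0, ep0, ep0, ep0, ep0, ep0, ep0, ep0, ep0, ep0, ep0, ep0, ep0, ep0, ep0, ep0, ep0, ep0, ep0], [em2, ep0, ep0, ep2, ep0, ep0, ep0, ep0, ep2, ep0, ep0, ep0, ep0, ep0, ep2, ep2, ep0, ep0, ep2, ep0, ep2, ep0, ep0, ep6], [ep3, ep1, ep1, em1, ep1, ep1, ep1, ep1, em1, ep1, ep1, ep1, ep1, ep1, em1, em1, ep1, ep1, em1, ep1, em1, ep1, ep1, em1], [ep2, ep0, ep0, ep0, ep0, ep0, ep0, ep0, ep2, ep2, ep0, ep0, ep2, ep2, ep0, ep2, ep2, ep0, ep0, ep0, ep0, ep0, ep0, ep2], [ep1, em1, ep1, em1, em1, em1, ep1, ep3, ep1, ep1, ep1, ep1, ep1, ep1, em1, ep1, ep1, ep1, em1, ep1, em1, ep1, ep1, ep1], [ep1, em1, ep1, ep1, em1, ep1, ep1, ep1, ep1, ep1, ep1, ep1, ep1, ep1, em1, em1,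 ep1, em1, ep1, ep1, em1, ep1, em1, ep3], [ep1, em1, ep1, em1, ep1, ep1, ep1, ep1, ep1, ep3, ep1, ep1, ep1, ep1, ep1, em1, ep1, ep1, em1, em1, em1, ep1, em1, ep1], [ep0, ep0, ep0, ep0, ep0, ep0, ep0, ep2, ep0, ep2, ep0, ep2, ep2, ep2, ep0, ep0, ep0, ep2, ep2, ep0, ep0, ep0, ep0, ep2], [ep1, em1, em1, em1, ep1, ep1, ep1, em1, em1, ep1, ep1, ep1, ep1, ep1, ep1, ep1, ep1, ep1, ep1, ep1, em1, ep1, em1, ep3], [ep1, em1, ep1, em1, ep1, ep1, ep1, ep1, ep1, ep1, em1, ep1, em1, ep1, ep1, ep1, ep1, em1, em1, ep1, em1, ep1, ep1, ep3], [ep1, em1, ep1, em1, ep1, ep1, ep1, ep1, em1, ep1, ep1, ep1, ep1, ep3, em1, ep1, ep1, em1, ep1, em1, em1, ep1, ep1, ep1], [ep1, em1, ep1, em1, em1, ep1, ep1, ep1, em1, ep1, em1, ep1, ep1, ep1, ep1, em1, ep1, ep1, ep1, ep1, em1, ep3, ep1, ep1], [ep2, ep0, ep0, em2, ep0, ep0, ep0, ep0, ep0, ep2, ep0, ep0, ep0, ep2, ep0, ep0, ep0, ep2, ep0, ep0, em2, ep0, ep2, ep2], [ep1, ep1,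 ep1, em1, em1, em1, em1, ep1, em1, ep1, ep1, ep1, ep1, ep1, ep1, ep1, ep1, em1, ep1, ep1, em1, ep1, ep1, ep3], [ep1, em1, em1, em1, em1, ep1, em1, ep1, ep1, ep1, ep1, ep1, ep1, ep1, ep1, em1, ep1, ep1, em1, ep1, ep1, ep1, ep1, ep3]],
   [[ep4, ep0, ep0, ep0, ep0, ep0, ep0, ep0, ep0, ep0, ep0, ep0, ep0, ep0, ep0, ep0, ep0, ep0, ep0, ep0, ep0, ep0, ep0, em4], [ep1, ep1, ep1, em1, ep1, em1, em1, ep1, ep1, em1, em1, em1, ep1, em1, ep1, em1, em1, ep1, em1, em1, em1, ep1, ep1, em3], [ep1, ep1, ep1, em1, em1, em1, em1, ep1, em1, em1, ep1, em1, ep1, em1, em1, em1, ep1, em1, ep1, em1, ep1, ep1, ep1, em3], [ep1, ep1, ep1, em1, ep1, em1, em1, ep1, ep1, em1, ep1, ep1, em1, ep1, em1, em1, em1, em1, em1, em1, ep1, ep1, em1, em3], [ep2, ep0, ep0, ep2, ep0, em2, em2, ep0, ep0, em2, ep0, ep0, ep0, ep0, ep0, em2, ep0, ep0, ep0, em2, ep0, ep0, ep0, em2], [ep2, ep0, ep0, em2, ep0, em2, ep2, ep0, ep0, em2, ep0,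 ep0, ep0, ep0, ep0, em2, ep0, ep0, ep0, em2, ep0, ep0, ep0, em2], [ep1, em1, ep1, em1, em1, em1, em1, ep1, ep1, em1, em1, ep1, ep1, ep1, em1, em1, ep1, ep1, em1, em1, ep1, em1, ep1, em3], [ep1, em1, ep1, em1, ep1, em1, em1, ep1, em1, em1, ep1, ep1, ep1, ep1, ep1, em1, em1, em1, ep1, em1, em1, em1, ep1, em3], [ep1, em1, em1, em1, ep1, em1, em1, ep1, em1, em1, ep1, em1, em1, ep1, ep1, em1, ep1, ep1, em1, em1, ep1, ep1, ep1, em3], [ep1, em1, em1, em1, em1, em1, em1, ep1, ep1, em1, ep1, ep1, ep1, em1, ep1, em1, em1, ep1, ep1, em1, ep1, ep1, em1, em3], [ep1, ep1, ep1, em1, ep1, em1, em1, em1, em1, em1, ep1, ep1, ep1, em1, ep1, em1, ep1, ep1, em1, em1, ep1, em1, em1, em3], [ep1, em1, ep1, em1, ep1, em1, em1, em1, ep1, em1, em1, em1, ep1, ep1, ep1, em1, ep1, em1, ep1, em1, ep1, ep1, em1, em3], [ep1, ep1, em1, em1, ep1, em1, em1, ep1, ep1, em1, ep1, em1, ep1, ep1, em1, em1, ep1, ep1, ep1, em1, em1,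 em1, em1, em3], [ep1, ep1, em1, em1, em1, em1, em1, em1, ep1, em1, ep1, ep1, ep1, ep1, ep1, em1, ep1, em1, em1, em1, em1, ep1, ep1, em3], [ep1, ep1, ep1, em1, em1, em1, em1, ep1, em1, em1, em1, ep1, em1, ep1, ep1, em1, ep1, ep1, ep1, em1, em1, ep1, em1, em3], [ep1, ep1, em1, em1, ep1, em1, em1, ep1, ep1, em1, em1, ep1, em1, em1, ep1, em1, ep1, em1, ep1, em1, ep1, em1, ep1, em3], [ep1, ep1, em1, em1, ep1, em1, em1, em1, em1, em1, em1, ep1, ep1, ep1, em1, em1, em1, ep1, ep1, em1, ep1, ep1, ep1, em3], [ep2, ep0, ep0, em2, ep0, em2, em2, ep0, ep0, em2, ep0, ep0, ep0, ep0, ep0, em2, ep0, ep0, ep0, ep2, ep0, ep0, ep0, em2], [ep1, ep1, ep1, em1, em1, em1, em1, em1, ep1, em1, ep1, em1, em1, ep1, ep1, em1, em1, ep1, ep1, em1, ep1, em1, ep1, em3], [ep2, ep0, ep0, em2, ep0, em2, em2, ep0, ep0, ep2, ep0, ep0, ep0, ep0, ep0, em2, ep0, ep0, ep0, em2, ep0, ep0, ep0, em2], [ep1, em1, ep1, em1, ep1, em1, em1,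 em1, ep1, em1, ep1, ep1, em1, em1, em1, em1, ep1, ep1, ep1, em1, em1, ep1, ep1, em3], [ep2, ep0, ep0, em2, ep0, ep2, em2, ep0, ep0, em2, ep0, ep0, ep0, ep0, ep0, em2, ep0, ep0, ep0, em2, ep0, ep0, ep0, em2], [ep2, ep0, ep0, em2, ep0, em2, em2, ep0, ep0, em2, ep0, ep0, ep0, ep0, ep0, ep2, ep0, ep0, ep0, em2, ep0, ep0, ep0, em2], [ep0, ep0, ep0, ep0, ep0, ep0, ep0, ep0, ep0, ep0, ep0, ep0, ep0, ep0, ep0, ep0, ep0, ep0, ep0, ep0, ep0, ep0, ep0, ep0], [em2, ep0, ep0, ep2, ep0, ep2, ep2, ep0, ep0, ep2, ep0, ep0, ep0, ep0, ep0, ep2, ep0, ep0, ep0, ep2, ep0, ep0, ep0, ep6], [ep3, ep1, ep1, em1, ep1, em1, em1, ep1, ep1, em1, ep1, ep1, ep1, ep1, ep1, em1, ep1, ep1, ep1, em1, ep1, ep1, ep1, em1], [ep2, ep2, ep0, ep0, ep0, ep0, ep0, ep0, ep0, ep0, ep0, ep0, ep0, ep2, ep0, ep2, ep0, ep2, ep2, ep2, ep0, ep0, ep0, ep2], [ep1, ep3, em1, em1, ep1, em1, em1, ep1, ep1, ep1, em1, ep1, ep1, ep1, ep1, ep1, ep1,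 ep1, ep1, em1, em1, ep1, ep1, ep1], [ep0, ep2, ep0, ep0, ep0, ep0, ep0, ep0, ep2, ep0, ep2, ep0, ep0, ep0, ep0, ep2, ep2, ep0, ep2, ep0, ep0, ep0, ep2, ep2], [ep2, ep2, ep0, em2, ep0, ep0, em2, ep0, ep2, ep0, ep2, ep0, ep0, ep2, ep0, ep0, ep0, ep0, ep0, ep0, ep0, ep0, ep0, ep2], [ep1, ep1, em1, ep1, ep1, em1, em1, em1, ep1, ep1, ep1, ep1, ep1, ep1, em1, em1, ep1, ep1, ep1, ep1, em1, ep1, ep1, ep3], [ep1, ep1, ep1, em1, em1, ep1, ep1, em1, ep1, em1, ep1, ep1, em1, ep1, ep1, em1, ep1, ep1, ep1, ep1, em1, ep1, ep1, ep3], [ep1, ep1, ep1, em1, em1, ep1, em1, ep1, ep1, ep1, em1, ep1, em1, ep1, ep1, ep1, ep1, ep1, ep1, em1, ep1, em1, ep1, ep3], [ep1, ep1, ep1, em1, ep1, em1, em1, ep1, ep1, ep1, ep1, ep1, em1, ep1, ep1, em1, ep1, ep1, ep3, ep1, em1, em1, ep1, ep1], [ep1, ep1, em1, em1, ep1, ep1, em1, em1, ep1, ep1, ep1, ep1, em1, ep1, ep1, em1, ep1, ep1, ep1, em1, ep1, ep1, ep3, ep1], [ep2, ep0, ep0,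 em2, ep0, ep0, em2, ep0, ep0, ep0, ep0, ep2, ep0, ep0, ep0, ep0, ep0, ep2, ep2, ep0, ep0, ep2, ep0, ep2], [ep0, ep2, ep0, ep0, ep2, ep2, ep0, ep0, ep0, ep0, ep0, ep2, ep0, ep0, ep0, ep0, ep2, ep2, ep2, ep0, ep0, ep0, ep0, ep2], [ep1, ep1, em1, em1, ep1, ep1, em1, em1, ep1, em1, em1, ep1, ep1, ep1, ep1, ep1, ep1, em1, ep1, ep1, ep1, ep1, ep1, ep3]],
   [[ep4, ep0, ep0, ep0, ep0, ep0, ep0, ep0, ep0, ep0, ep0, ep0, ep0, ep0, ep0, ep0, ep0, ep0, ep0, ep0, ep0, ep0, ep0, em4], [ep0, ep4, ep0, ep0, ep0, ep0, ep0, ep0, ep0, ep0, ep0, ep0, ep0, ep0, ep0, ep0, ep0, ep0, ep0, ep0, ep0, ep0, ep0, em4], [ep0, ep0, ep4, ep0, ep0, ep0, ep0, ep0, ep0, ep0, ep0, ep0, ep0, ep0, ep0, ep0, ep0, ep0, ep0, ep0, ep0, ep0, ep0, em4], [ep0, ep0, ep0, ep4, ep0, ep0, ep0, ep0, ep0, ep0, ep0, ep0, ep0, ep0, ep0, ep0, ep0, ep0, ep0, ep0, ep0, ep0, ep0, em4], [ep0, ep0, ep0, ep0, ep4, ep0, ep0, ep0, ep0, ep0, ep0, ep0,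 ep0, ep0, ep0, ep0, ep0, ep0, ep0, ep0, ep0, ep0, ep0, em4], [ep0, ep0, ep0, ep0, ep0, ep4, ep0, ep0, ep0, ep0, ep0, ep0, ep0, ep0, ep0, ep0, ep0, ep0, ep0, ep0, ep0, ep0, ep0, em4], [ep0, ep0, ep0, ep0, ep0, ep0, ep4, ep0, ep0, ep0, ep0, ep0, ep0, ep0, ep0, ep0, ep0, ep0, ep0, ep0, ep0, ep0, ep0, em4], [ep0, ep0, ep0, ep0, ep0, ep0, ep0, ep4, ep0, ep0, ep0, ep0, ep0, ep0, ep0, ep0, ep0, ep0, ep0, ep0, ep0, ep0, ep0, em4], [ep0, ep0, ep0, ep0, ep0, ep0, ep0, ep0, ep4, ep0, ep0, ep0, ep0, ep0, ep0, ep0, ep0, ep0, ep0, ep0, ep0, ep0, ep0, em4], [ep0, ep0, ep0, ep0, ep0, ep0, ep0, ep0, ep0, ep4, ep0, ep0, ep0, ep0, ep0, ep0, ep0, ep0, ep0, ep0, ep0, ep0, ep0, em4], [ep0, ep0, ep0, ep0, ep0, ep0, ep0, ep0, ep0, ep0, ep4, ep0, ep0, ep0, ep0, ep0, ep0, ep0, ep0, ep0, ep0, ep0, ep0, em4], [ep0, ep0, ep0, ep0, ep0, ep0, ep0, ep0, ep0, ep0, ep0, ep4, ep0, ep0, ep0, ep0, ep0, ep0, ep0, ep0, ep0, ep0,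 ep0, em4], [ep0, ep0, ep0, ep0, ep0, ep0, ep0, ep0, ep0, ep0, ep0, ep0, ep4, ep0, ep0, ep0, ep0, ep0, ep0, ep0, ep0, ep0, ep0, em4], [ep0, ep0, ep0, ep0, ep0, ep0, ep0, ep0, ep0, ep0, ep0, ep0, ep0, ep4, ep0, ep0, ep0, ep0, ep0, ep0, ep0, ep0, ep0, em4], [ep0, ep0, ep0, ep0, ep0, ep0, ep0, ep0, ep0, ep0, ep0, ep0, ep0, ep0, ep4, ep0, ep0, ep0, ep0, ep0, ep0, ep0, ep0, em4], [ep0, ep0, ep0, ep0, ep0, ep0, ep0, ep0, ep0, ep0, ep0, ep0, ep0, ep0, ep0, ep4, ep0, ep0, ep0, ep0, ep0, ep0, ep0, em4], [ep0, ep0, ep0, ep0, ep0, ep0, ep0, ep0, ep0, ep0, ep0, ep0, ep0, ep0, ep0, ep0, ep4, ep0, ep0, ep0, ep0, ep0, ep0, em4], [ep0, ep0, ep0, ep0, ep0, ep0, ep0, ep0, ep0, ep0, ep0, ep0, ep0, ep0, ep0, ep0, ep0, ep4, ep0, ep0, ep0, ep0, ep0, em4], [ep0, ep0, ep0, ep0, ep0, ep0, ep0, ep0, ep0, ep0, ep0, ep0, ep0, ep0, ep0, ep0, ep0, ep0, ep4, ep0, ep0, ep0, ep0, em4], [ep0, ep0, ep0, ep0, ep0, ep0, ep0, ep0,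 ep0, ep0, ep0, ep0, ep0, ep0, ep0, ep0, ep0, ep0, ep0, ep4, ep0, ep0, ep0, em4], [ep0, ep0, ep0, ep0, ep0, ep0, ep0, ep0, ep0, ep0, ep0, ep0, ep0, ep0, ep0, ep0, ep0, ep0, ep0, ep0, ep4, ep0, ep0, em4], [ep0, ep0, ep0, ep0, ep0, ep0, ep0, ep0, ep0, ep0, ep0, ep0, ep0, ep0, ep0, ep0, ep0, ep0, ep0, ep0, ep0, ep4, ep0, em4], [ep0, ep0, ep0, ep0, ep0, ep0, ep0, ep0, ep0, ep0, ep0, ep0, ep0, ep0, ep0, ep0, ep0, ep0, ep0, ep0, ep0, ep0, ep4, em4], [ep0, ep0, ep0, ep0, ep0, ep0, ep0, ep0, ep0, ep0, ep0, ep0, ep0, ep0, ep0, ep0, ep0, ep0, ep0, ep0, ep0, ep0, ep0, ep0], [ep0, ep0, ep0, ep0, ep0, ep0, ep0, ep0, ep0, ep0, ep0, ep0, ep0, ep0, ep0, ep0, ep0, ep0, ep0, ep0, ep0, ep0, ep0, ep8], [ep1, ep1, ep1, ep1, ep1, ep1, ep1, ep1, ep1, ep1, ep1, ep1, ep1, ep1, ep1, ep1, ep1, ep1, ep1, ep1, ep1, ep1, ep1, em3], [ep2, ep0, ep0, ep0, ep0, ep0, ep0, ep0, ep0, ep0, ep0, ep0, ep2, ep0, ep2, ep0, ep2, ep2,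 ep2, ep0, ep0, ep0, ep2, ep2], [ep0, ep2, ep0, ep0, ep0, ep0, ep0, ep0, ep0, ep0, ep0, ep0, ep2, ep2, ep2, ep2, ep2, ep0, ep0, ep2, ep0, ep0, ep2, ep0], [ep0, ep0, ep2, ep0, ep0, ep0, ep0, ep0, ep0, ep0, ep0, ep0, ep2, ep2, ep0, ep2, ep0, ep0, ep2, ep0, ep2, ep0, ep2, ep2], [ep0, ep0, ep0, ep2, ep0, ep0, ep0, ep0, ep0, ep0, ep0, ep0, ep2, ep2, ep0, ep0, ep0, ep2, ep2, ep2, ep0, ep2, ep2, ep0], [ep0, ep0, ep0, ep0, ep2, ep0, ep0, ep0, ep0, ep0, ep0, ep0, ep2, ep2, ep0, ep0, ep2, ep2, ep0, ep2, ep2, ep0, ep0, ep2], [ep0, ep0, ep0, ep0, ep0, ep2, ep0, ep0, ep0, ep0, ep0, ep0, ep0, ep2, ep2, ep0, ep0, ep2, ep2, ep0, ep2, ep2, ep0, ep2], [ep0, ep0, ep0, ep0, ep0, ep0, ep2, ep0, ep0, ep0, ep0, ep0, ep0, ep0, ep2, ep2, ep0, ep0, ep2, ep2, ep0, ep2, ep2, ep2], [ep0, ep0, ep0, ep0, ep0, ep0, ep0, ep2, ep0, ep0, ep0, ep0, ep2, ep0, ep2, ep2, ep0, ep2, ep2, ep2, ep2, ep0, ep0, ep0], [ep0, ep0, ep0, ep0,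 ep0, ep0, ep0, ep0, ep2, ep0, ep0, ep0, ep0, ep2, ep0, ep2, ep2, ep0, ep2, ep2, ep2, ep2, ep0, ep0], [ep0, ep0, ep0, ep0, ep0, ep0, ep0, ep0, ep0, ep2, ep0, ep0, ep0, ep0, ep2, ep0, ep2, ep2, ep0, ep2, ep2, ep2, ep2, ep0], [ep0, ep0, ep0, ep0, ep0, ep0, ep0, ep0, ep0, ep0, ep2, ep0, ep2, ep0, ep2, ep2, ep2, ep0, ep0, ep0, ep2, ep2, ep0, ep2], [ep0, ep0, ep0, ep0, ep0, ep0, ep0, ep0, ep0, ep0, ep0, ep2, ep0, ep2, ep0, ep2, ep2, ep2, ep0, ep0, ep0, ep2, ep2, ep2]],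
   [[ep4, ep0, ep0, ep0, ep0, ep0, ep0, ep0, ep0, ep0, ep0, ep0, ep0, ep0, ep0, ep0, ep0, ep0, ep0, ep0, ep0, ep0, ep0, em4], [ep1, ep1, ep1, ep1, em1, em1, ep1, ep1, ep1, ep1, em1, em1, ep1, em1, ep1, ep1, em1, em1, em1, em1, em1, em1, em1, em3], [ep1, ep1, ep1, ep1, ep1, em1, em1, ep1, em1, ep1, em1, em1, em1, em1, em1, ep1, em1, ep1, em1, ep1, em1, em1, ep1, em3], [ep1, ep1, ep1, ep1, ep1, ep1, ep1, em1, ep1, em1, em1, em1, ep1, em1, em1, em1, em1, em1, em1, ep1, em1, em1, ep1, em3], [ep1, em1, ep1, ep1, ep1, ep1, ep1, ep1, em1, em1, em1, em1, ep1, em1, em1, ep1, em1, ep1, em1, em1, em1, ep1, em1, em3], [ep1, em1, em1, ep1, ep1, ep1, em1, em1, ep1, ep1, em1, em1, ep1, em1, ep1, ep1, em1, ep1, em1, em1, em1, em1, ep1, em3], [ep1, ep1, em1, ep1, ep1, em1, ep1, em1, ep1, em1, em1, em1, em1, em1, ep1, ep1, em1, ep1, em1, ep1, em1, ep1, em1, em3], [ep1, ep1, ep1, em1, ep1, em1, em1, ep1, ep1,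 em1, em1, em1, ep1, em1, ep1, em1, em1, ep1, em1, em1, em1, ep1, ep1, em3], [ep1, ep1, em1, ep1, em1, ep1, ep1, ep1, ep1, ep1, em1, em1, em1, em1, em1, em1, em1, ep1, em1, em1, em1, ep1, ep1, em3], [ep1, ep1, ep1, em1, em1, ep1, em1, em1, ep1, ep1, em1, em1, ep1, em1, em1, ep1, em1, ep1, em1, ep1, em1, ep1, em1, em3], [ep2, ep0, ep0, ep0, ep0, ep0, ep0, ep0, ep0, ep0, ep2, em2, ep0, em2, ep0, ep0, em2, ep0, em2, ep0, em2, ep0, ep0, em2], [ep2, ep0, ep0, ep0, ep0, ep0, ep0, ep0, ep0, ep0, em2, em2, ep0, em2, ep0, ep0, ep2, ep0, em2, ep0, em2, ep0, ep0, em2], [ep1, ep1, em1, ep1, ep1, ep1, em1, ep1, em1, ep1, em1, em1, ep1, em1, ep1, em1, em1, em1, em1, ep1, em1, ep1, em1, em3], [ep2, ep0, ep0, ep0, ep0, ep0, ep0, ep0, ep0, ep0, em2, em2, ep0, ep2, ep0, ep0, em2, ep0, em2, ep0, em2, ep0, ep0, em2], [ep1, ep1, em1, em1, em1, ep1, ep1, ep1, em1, em1, em1, em1, ep1, em1, ep1, ep1, em1, ep1, em1,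 ep1, em1, em1, ep1, em3], [ep1, ep1, ep1, em1, ep1, ep1, ep1, em1, em1, ep1, em1, em1, em1, em1, ep1, ep1, em1, em1, em1, em1, em1, ep1, ep1, em3], [ep2, ep0, ep0, ep0, ep0, ep0, ep0, ep0, ep0, ep0, em2, ep2, ep0, em2, ep0, ep0, em2, ep0, em2, ep0, em2, ep0, ep0, em2], [ep1, em1, ep1, em1, ep1, ep1, ep1, ep1, ep1, ep1, em1, em1, em1, em1, ep1, em1, em1, ep1, em1, ep1, em1, em1, em1, em3], [ep2, ep0, ep0, ep0, ep0, ep0, ep0, ep0, ep0, ep0, em2, em2, ep0, em2, ep0, ep0, em2, ep0, ep2, ep0, em2, ep0, ep0, em2], [ep1, em1, ep1, ep1, em1, em1, ep1, em1, em1, ep1, em1, em1, ep1, em1, ep1, em1, em1, ep1, em1, ep1, em1, ep1, ep1, em3], [ep2, ep0, ep0, ep0, ep0, ep0, ep0, ep0, ep0, ep0, em2, em2, ep0, em2, ep0, ep0, em2, ep0, em2, ep0, ep2, ep0, ep0, em2], [ep1, em1, em1, em1, ep1, em1, ep1, ep1, ep1, ep1, em1, em1, ep1, em1, em1, ep1, em1, em1, em1, ep1, em1, ep1, ep1, em3], [ep1, em1, ep1, ep1, em1,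 ep1, em1, ep1, ep1, em1, em1, em1, em1, em1, ep1, ep1, em1, em1, em1, ep1, em1, ep1, ep1, em3], [ep0, ep0, ep0, ep0, ep0, ep0, ep0, ep0, ep0, ep0, ep0, ep0, ep0, ep0, ep0, ep0, ep0, ep0, ep0, ep0, ep0, ep0, ep0, ep0], [em2, ep0, ep0, ep0, ep0, ep0, ep0, ep0, ep0, ep0, ep2, ep2, ep0, ep2, ep0, ep0, ep2, ep0, ep2, ep0, ep2, ep0, ep0, ep6], [ep3, ep1, ep1, ep1, ep1, ep1, ep1, ep1, ep1, ep1, em1, em1, ep1, em1, ep1, ep1, em1, ep1, em1, ep1, em1, ep1, ep1, em1], [ep2, ep0, ep0, ep0, ep0, ep2, ep0, ep2, ep0, ep0, ep0, ep2, ep0, ep0, ep2, ep0, ep0, ep0, ep2, ep2, ep0, ep0, ep0, ep2], [ep1, ep1, ep1, ep1, em1, ep1, ep1, ep1, em1, ep1, em1, ep1, ep1, ep1, ep3, ep1, em1, em1, em1, ep1, em1, ep1, ep1, ep1], [ep1, ep1, ep1, ep1, ep1, ep1, em1, ep1, em1, ep1, em1, em1, em1, ep1, ep1, ep1, em1, em1, ep1, ep1, ep1, ep1, ep1, ep3], [ep1, em1, ep1, ep1, ep1, ep1, ep1, ep1, ep1, ep1, em1, em1, ep1, ep1, ep1,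 em1, em1, em1, ep1, ep3, em1, ep1, ep1, ep1], [ep1, em1, ep1, ep1, ep1, ep1, ep1, ep1, em1, ep1, em1, ep1, ep1, ep1, ep1, em1, em1, ep1, em1, ep1, ep1, ep1, em1, ep3], [ep1, em1, em1, em1, ep1, ep1, ep1, ep1, ep1, ep1, em1, em1, ep1, ep1, ep1, ep1, em1, ep1, ep1, ep1, ep1, em1, ep1, ep3], [ep0, ep0, ep0, ep0, ep0, ep0, ep2, ep0, ep0, ep0, ep0, ep0, ep0, ep0, ep2, ep2, ep0, ep0, ep2, ep2, ep0, ep2, ep2, ep2], [ep1, ep1, ep1, em1, ep1, ep1, ep1, ep1, em1, ep1, em1, em1, ep1, em1, ep3, em1, em1, ep1, ep1, ep1, ep1, ep1, ep1, ep1], [ep2, ep0, ep0, ep0, ep0, ep0, ep2, ep0, ep0, ep2, em2, ep0, ep0, ep0, ep0, ep0, em2, ep0, ep0, ep0, ep0, ep2, ep2, ep2], [ep1, em1, ep1, em1, em1, ep1, ep1, ep1, ep1, ep1, em1, ep1, ep1, em1, ep1, ep1, em1, ep1, em1, ep3, ep1, ep1, ep1, ep1], [ep1, ep1, em1, em1, ep1, ep1, ep1, ep1, em1, ep1, ep1, ep1, ep1, em1, ep1, ep1, em1, em1, em1, ep1, ep1, ep1, ep1, ep3], [ep1,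 em1, ep1, em1, ep1, ep1, ep1, ep1, ep1, ep1, em1, ep1, em1, ep1, ep1, ep1, ep1, em1, em1, ep1, em1, ep1, ep1, ep3]]]

/-- The images of the generators under the transposes. -/
def imgsT : List (List (List ℤ)) :=
  [[[ep4, ep0, ep0, ep0, ep0, ep0, ep0, ep0, ep0, ep0, ep0, ep0, ep0, ep0, ep0, ep0, ep0, ep0, ep0, ep0, ep0, ep0, ep0, em4], [ep1, ep1, ep1, ep1, em1, ep1, ep1, em1, em1, ep1, ep1, em1, ep1, em1, em1, em1, em1, em1, ep1, em1, em1, ep1, em1, em3], [ep1, ep1, ep1, em1, em1, em1, em1, ep1, em1, em1, ep1, em1, ep1, em1, em1, em1, ep1, em1, ep1, em1, ep1, ep1, ep1, em3], [ep2, ep0, ep0, ep0, ep2, ep0, ep0, ep0, em2, ep0, ep0, em2, ep0, em2, em2, ep0, ep0, em2, ep0, ep0, ep0, ep0, ep0, em2], [ep1, ep1, ep1, ep1, em1, ep1, em1, ep1, em1, em1, em1, em1, ep1, em1, em1, ep1, em1, em1, ep1, ep1, ep1, em1, em1, em3], [ep2, ep0, ep0, ep0, em2, ep0, ep0, ep0, em2, ep0, ep0, em2, ep0, em2, ep2, ep0,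 ep0, em2, ep0, ep0, ep0, ep0, ep0, em2], [ep1, ep1, em1, em1, em1, ep1, ep1, ep1, em1, ep1, em1, em1, ep1, em1, em1, ep1, ep1, em1, em1, em1, ep1, ep1, em1, em3], [ep1, ep1, ep1, ep1, em1, ep1, ep1, ep1, em1, em1, ep1, em1, em1, em1, em1, ep1, ep1, em1, em1, em1, em1, em1, ep1, em3], [ep2, ep0, ep0, ep0, em2, ep0, ep0, ep0, em2, ep0, ep0, em2, ep0, em2, em2, ep0, ep0, ep2, ep0, ep0, ep0, ep0, ep0, em2], [ep1, em1, ep1, em1, em1, ep1, ep1, ep1, em1, ep1, ep1, em1, em1, em1, em1, em1, ep1, em1, ep1, ep1, ep1, em1, em1, em3], [ep1, ep1, em1, ep1, em1, em1, ep1, ep1, em1, ep1, ep1, em1, ep1, em1, em1, em1, em1, em1, em1, ep1, ep1, em1, ep1, em3], [ep2, ep0, ep0, ep0, em2, ep0, ep0, ep0, em2, ep0, ep0, em2, ep0, ep2, em2, ep0, ep0, em2, ep0, ep0, ep0, ep0, ep0, em2], [ep1, em1, ep1, ep1, em1, em1, em1, ep1, em1, ep1, ep1, em1, ep1, em1, em1, ep1, ep1, em1, em1, ep1, em1, ep1, em1, em3], [ep1, ep1,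 ep1, em1, em1, em1, ep1, em1, em1, ep1, em1, em1, ep1, em1, em1, ep1, ep1, em1, ep1, ep1, em1, em1, ep1, em3], [ep1, ep1, em1, em1, em1, ep1, em1, ep1, em1, ep1, ep1, em1, em1, em1, em1, ep1, em1, em1, ep1, ep1, em1, ep1, ep1, em3], [ep1, ep1, ep1, ep1, em1, ep1, em1, em1, em1, ep1, em1, em1, em1, em1, em1, em1, ep1, em1, em1, ep1, ep1, ep1, ep1, em3], [ep2, ep0, ep0, ep0, em2, ep0, ep0, ep0, em2, ep0, ep0, ep2, ep0, em2, em2, ep0, ep0, em2, ep0, ep0, ep0, ep0, ep0, em2], [ep1, ep1, em1, ep1, em1, em1, ep1, em1, em1, em1, ep1, em1, em1, em1, em1, ep1, ep1, em1, ep1, ep1, ep1, ep1, em1, em3], [ep1, em1, ep1, em1, em1, ep1, ep1, em1, em1, em1, ep1, em1, ep1, em1, em1, ep1, em1, em1, em1, ep1, ep1, ep1, ep1, em3], [ep1, em1, em1, ep1, em1, ep1, em1, em1, em1, ep1, ep1, em1, ep1, em1, em1, ep1, ep1, em1, ep1, em1, ep1, em1, ep1, em3], [ep1, em1, em1, ep1, em1, ep1, ep1, ep1, em1, em1, em1, em1,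 ep1, em1, em1, em1, ep1, em1, ep1, ep1, em1, ep1, ep1, em3], [ep1, em1, ep1, ep1, em1, em1, ep1, ep1, em1, ep1, em1, em1, em1, em1, em1, ep1, em1, em1, ep1, em1, ep1, ep1, ep1, em3], [ep2, ep0, ep0, ep0, em2, ep0, ep0, ep0, ep2, ep0, ep0, em2, ep0, em2, em2, ep0, ep0, em2, ep0, ep0, ep0, ep0, ep0, em2], [ep0, ep0, ep0, ep0, ep0, ep0, ep0, ep0, ep0, ep0, ep0, ep0, ep0, ep0, ep0, ep0, ep0, ep0, ep0, ep0, ep0, ep0, ep0, ep0], [em2, ep0, ep0, ep0, ep2, ep0, ep0, ep0, ep2, ep0, ep0, ep2, ep0, ep2, ep2, ep0, ep0, ep2, ep0, ep0, ep0, ep0, ep0, ep6], [ep3, ep1, ep1, ep1, em1, ep1, ep1, ep1, em1, ep1, ep1, em1, ep1, em1, em1, ep1, ep1, em1, ep1, ep1, ep1, ep1, ep1, em1], [ep2, ep0, ep0, ep0, ep0, ep0, ep0, ep0, ep2, ep0, ep2, ep2, ep0, ep0, ep0, ep2, ep0, ep0, ep0, ep2, ep0, ep2, ep0, ep2], [ep1, ep1, ep1, ep1, em1, ep1, em1, em1, ep1, ep3, ep1, ep1, ep1, em1, em1, ep1, ep1, em1, ep1, ep1, em1, ep1,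 ep1, ep1], [ep0, ep0, ep2, ep0, ep0, ep0, ep0, ep0, ep2, ep0, ep0, ep0, ep2, ep0, ep0, ep0, ep2, ep0, ep0, ep2, ep0, ep2, ep2, ep2], [ep1, em1, ep1, ep1, ep1, em1, ep1, em1, ep1, ep1, ep1, em1, ep1, em1, em1, ep3, ep1, em1, ep1, ep1, ep1, ep1, ep1, ep1], [ep0, ep0, ep0, ep2, ep0, ep0, ep0, ep0, ep0, ep0, ep0, ep2, ep2, ep0, ep0, ep2, ep2, ep0, ep2, ep2, ep0, ep0, ep0, ep2], [ep0, ep0, ep0, ep0, ep0, ep0, ep2, ep0, ep0, ep0, ep0, ep0, ep0, ep0, ep2, ep2, ep0, ep0, ep2, ep2, ep0, ep2, ep2, ep2], [ep0, ep0, ep0, ep0, ep0, ep2, ep0, ep0, ep2, ep2, ep0, ep0, ep0, ep0, ep0, ep2, ep0, ep0, ep0, ep0, ep2, ep2, ep2, ep2], [ep0, ep0, ep0, ep2, ep0, ep2, ep0, ep0, ep0, ep0, ep2, ep0, ep0, ep0, ep0, ep2, ep2, ep0, ep0, ep2, ep0, ep2, ep2, ep0], [ep1, em1, ep1, ep1, em1, ep1, ep1, em1, em1, ep1, em1, ep1, ep1, em1, em1, ep1, ep1, ep1, ep1, ep1, ep1, ep1, ep3, ep1], [ep1, em1, em1, ep1, em1, ep1, ep1, ep1,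 ep1, ep1, ep1, ep1, em1, em1, em1, ep1, ep1, em1, ep3, ep1, ep1, ep1, ep1, ep1], [ep0, ep0, ep0, ep2, ep0, ep0, ep0, ep2, ep0, ep2, ep0, ep2, ep0, ep0, ep0, ep0, ep0, ep0, ep0, ep2, ep0, ep2, ep2, ep2], [ep1, ep1, ep1, ep1, em1, em1, ep1, em1, ep1, ep1, em1, ep1, em1, ep1, em1, ep1, ep1, em1, ep1, ep1, ep1, ep1, ep1, ep3]],
   [[ep4, ep0, ep0, ep0, ep0, ep0, ep0, ep0, ep0, ep0, ep0, ep0, ep0, ep0, ep0, ep0, ep0, ep0, ep0, ep0, ep0, ep0, ep0, em4], [ep1, em1, em1, ep1, ep1, ep1, ep1, ep1, ep1, ep1, ep1, em1, ep1, em1, em1, em1, ep1, em1, em1, em1, em1, em1, em1, em3], [ep1, ep1, em1, ep1, ep1, em1, em1, em1, ep1, ep1, ep1, em1, ep1, em1, em1, ep1, em1, em1, ep1, ep1, em1, em1, em1, em3], [ep2, ep0, ep2, ep0, ep0, ep0, ep0, ep0, ep0, ep0, ep0, em2, ep0, ep0, em2, ep0, ep0, ep0, ep0, ep0, em2, em2, em2, em2], [ep1, ep1, em1, ep1, ep1, ep1, ep1, ep1, em1, em1, ep1, em1, em1, em1, em1, em1, em1,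 ep1, ep1, ep1, em1, em1, em1, em3], [ep1, em1, em1, ep1, ep1, em1, ep1, ep1, ep1, ep1, em1, em1, em1, ep1, em1, ep1, em1, ep1, ep1, em1, em1, em1, em1, em3], [ep1, ep1, em1, em1, em1, ep1, ep1, ep1, ep1, ep1, em1, em1, ep1, ep1, em1, em1, em1, em1, ep1, ep1, em1, em1, em1, em3], [ep1, ep1, em1, ep1, ep1, em1, ep1, ep1, em1, em1, em1, em1, ep1, ep1, em1, ep1, ep1, em1, em1, ep1, em1, em1, em1, em3], [ep2, ep0, em2, ep0, ep0, ep0, ep0, ep0, ep0, ep0, ep0, em2, ep0, ep0, em2, ep0, ep0, ep0, ep0, ep0, em2, em2, ep2, em2], [ep1, em1, em1, ep1, em1, em1, ep1, em1, em1, ep1, ep1, em1, ep1, ep1, em1, em1, ep1, ep1, ep1, ep1, em1, em1, em1, em3], [ep1, ep1, em1, ep1, em1, ep1, em1, ep1, em1, ep1, ep1, em1, ep1, ep1, em1, ep1, em1, ep1, em1, em1, em1, em1, em1, em3], [ep1, em1, em1, em1, ep1, ep1, ep1, em1, ep1, em1, ep1, em1, ep1, ep1, em1, ep1, em1, ep1, em1, ep1, em1, em1, em1, em3], [ep1, ep1, em1,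 em1, ep1, em1, em1, ep1, ep1, em1, ep1, em1, ep1, ep1, em1, em1, ep1, ep1, ep1, em1, em1, em1, em1, em3], [ep1, em1, em1, em1, ep1, ep1, em1, ep1, em1, ep1, em1, em1, ep1, em1, em1, ep1, ep1, ep1, ep1, ep1, em1, em1, em1, em3], [ep2, ep0, em2, ep0, ep0, ep0, ep0, ep0, ep0, ep0, ep0, em2, ep0, ep0, em2, ep0, ep0, ep0, ep0, ep0, em2, ep2, em2, em2], [ep2, ep0, em2, ep0, ep0, ep0, ep0, ep0, ep0, ep0, ep0, em2, ep0, ep0, ep2, ep0, ep0, ep0, ep0, ep0, em2, em2, em2, em2], [ep1, ep1, em1, ep1, em1, ep1, ep1, em1, ep1, em1, em1, em1, ep1, em1, em1, ep1, ep1, ep1, ep1, em1, em1, em1, em1, em3], [ep1, ep1, em1, ep1, ep1, ep1, em1, em1, ep1, ep1, em1, em1, em1, ep1, em1, em1, ep1, ep1, em1, ep1, em1, em1, em1, em3], [ep2, ep0, em2, ep0, ep0, ep0, ep0, ep0, ep0, ep0, ep0, em2, ep0, ep0, em2, ep0, ep0, ep0, ep0, ep0, ep2, em2, em2, em2], [ep1, ep1, em1, em1, ep1, ep1, ep1, em1, em1, ep1, ep1, em1, em1,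 ep1, em1, ep1, ep1, em1, ep1, em1, em1, em1, em1, em3], [ep2, ep0, em2, ep0, ep0, ep0, ep0, ep0, ep0, ep0, ep0, ep2, ep0, ep0, em2, ep0, ep0, ep0, ep0, ep0, em2, em2, em2, em2], [ep1, em1, em1, ep1, em1, ep1, em1, ep1, ep1, em1, ep1, em1, em1, ep1, em1, ep1, ep1, em1, ep1, ep1, em1, em1, em1, em3], [ep1, ep1, em1, em1, em1, em1, ep1, ep1, ep1, ep1, ep1, em1, em1, em1, em1, ep1, ep1, ep1, em1, ep1, em1, em1, em1, em3], [ep0, ep0, ep0, ep0, ep0, ep0, ep0, ep0, ep0, ep0, ep0, ep0, ep0, ep0, ep0, ep0, ep0, ep0, ep0, ep0, ep0, ep0, ep0, ep0], [em2, ep0, ep2, ep0, ep0, ep0, ep0, ep0, ep0, ep0, ep0, ep2, ep0, ep0, ep2, ep0, ep0, ep0, ep0, ep0, ep2, ep2, ep2, ep6], [ep3, ep1, em1, ep1, ep1, ep1, ep1, ep1, ep1, ep1, ep1, em1, ep1, ep1, em1, ep1, ep1, ep1, ep1, ep1, em1, em1, em1, em1], [ep2, ep2, ep0, ep0, ep0, ep0, ep0, ep0, ep2, ep0, ep0, ep0, ep0, ep0, ep0, ep0, ep2, ep2, ep0, ep0, ep2, ep2, ep0,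 ep2], [ep1, ep1, em1, em1, ep1, ep1, ep1, ep1, ep1, ep1, ep1, em1, ep1, em1, ep1, ep1, ep3, ep1, ep1, em1, em1, ep1, em1, ep1], [ep1, ep1, em1, em1, ep1, em1, em1, ep1, ep1, ep1, ep1, ep1, ep1, em1, ep1, ep1, ep1, ep1, ep1, ep1, ep1, em1, em1, ep3], [ep1, ep1, ep1, em1, ep1, ep1, em1, ep1, ep1, ep1, ep1, em1, em1, ep1, em1, ep1, ep3, ep1, ep1, ep1, ep1, em1, em1, ep1], [ep0, ep2, ep0, ep0, ep2, ep2, ep0, ep0, ep0, ep0, ep0, ep2, ep0, ep0, ep0, ep0, ep2, ep2, ep2, ep0, ep0, ep0, ep0, ep2], [ep1, em1, em1, ep1, ep1, ep1, em1, ep1, ep1, ep1, em1, ep1, em1, ep1, em1, ep1, ep1, ep1, ep1, ep1, ep1, ep1, em1, ep3], [ep1, ep1, em1, em1, em1, ep1, ep1, ep1, ep1, ep1, ep1, em1, em1, ep1, ep1, ep1, ep1, em1, ep1, ep1, ep1, ep1, em1, ep3], [ep2, ep2, em2, ep0, ep2, ep0, ep0, ep0, ep0, ep0, ep0, ep0, ep0, ep2, ep0, ep0, ep2, ep0, ep0, ep0, ep0, ep0, em2, ep2], [ep2, ep0, em2, ep0, ep0, ep2, ep0, ep0, ep0,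 ep0, ep0, ep0, ep0, ep0, ep0, ep2, ep2, ep0, ep2, ep0, ep0, em2, ep0, ep2], [ep1, ep1, em1, ep1, em1, ep1, ep1, em1, ep1, ep1, ep1, ep1, em1, ep1, em1, ep1, ep3, ep1, ep1, ep1, em1, ep1, em1, ep1], [ep1, ep1, em1, ep1, em1, ep1, em1, ep1, ep1, em1, ep1, ep1, ep1, ep1, ep1, ep1, ep1, ep1, ep1, em1, em1, ep1, em1, ep3], [ep0, ep0, ep0, ep0, ep0, ep2, ep0, ep0, ep2, ep0, ep0, ep0, ep0, ep0, ep2, ep2, ep2, ep2, ep0, ep2, ep0, ep0, ep0, ep2]],
   [[ep4, ep0, ep0, ep0, ep0, ep0, ep0, ep0, ep0, ep0, ep0, ep0, ep0, ep0, ep0, ep0, ep0, ep0, ep0, ep0, ep0, ep0, ep0, em4], [ep1, ep1, ep1, ep1, em1, em1, em1, em1, em1, em1, ep1, em1, ep1, ep1, ep1, ep1, ep1, em1, ep1, em1, em1, em1, em1, em3], [ep1, ep1, ep1, ep1, em1, em1, ep1, ep1, em1, em1, ep1, ep1, em1, em1, ep1, em1, em1, em1, ep1, em1, ep1, em1, em1, em3], [ep2, ep0, ep0, ep0, ep2, em2, ep0, ep0, ep0, ep0, ep0, ep0, ep0, ep0, ep0, ep0, ep0, em2,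 ep0, em2, ep0, em2, em2, em2], [ep1, ep1, em1, ep1, em1, em1, em1, ep1, ep1, em1, ep1, ep1, ep1, em1, em1, ep1, ep1, em1, em1, em1, ep1, em1, em1, em3], [ep2, ep0, ep0, ep0, em2, em2, ep0, ep0, ep0, ep0, ep0, ep0, ep0, ep0, ep0, ep0, ep0, em2, ep0, em2, ep0, ep2, em2, em2], [ep2, ep0, ep0, ep0, em2, ep2, ep0, ep0, ep0, ep0, ep0, ep0, ep0, ep0, ep0, ep0, ep0, em2, ep0, em2, ep0, em2, em2, em2], [ep1, ep1, ep1, ep1, em1, em1, ep1, ep1, ep1, ep1, em1, em1, ep1, em1, ep1, ep1, em1, em1, em1, em1, em1, em1, em1, em3], [ep1, ep1, em1, ep1, em1, em1, ep1, em1, em1, ep1, em1, ep1, ep1, ep1, em1, ep1, em1, em1, ep1, em1, ep1, em1, em1, em3], [ep2, ep0, ep0, ep0, em2, em2, ep0, ep0, ep0, ep0, ep0, ep0, ep0, ep0, ep0, ep0, ep0, em2, ep0, ep2, ep0, em2, em2, em2], [ep1, em1, ep1, ep1, em1, em1, em1, ep1, ep1, ep1, ep1, em1, ep1, ep1, em1, em1, em1, em1, ep1, em1, ep1, em1, em1, em3], [ep1, em1, em1, ep1,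 em1, em1, ep1, ep1, em1, ep1, ep1, em1, em1, ep1, ep1, ep1, ep1, em1, em1, em1, ep1, em1, em1, em3], [ep1, ep1, ep1, em1, em1, em1, ep1, ep1, em1, ep1, ep1, ep1, ep1, ep1, em1, em1, ep1, em1, em1, em1, em1, em1, em1, em3], [ep1, em1, em1, ep1, em1, em1, ep1, ep1, ep1, em1, em1, ep1, ep1, ep1, ep1, em1, ep1, em1, ep1, em1, em1, em1, em1, em3], [ep1, ep1, em1, em1, em1, em1, em1, ep1, ep1, ep1, ep1, ep1, em1, ep1, ep1, ep1, em1, em1, ep1, em1, em1, em1, em1, em3], [ep2, ep0, ep0, ep0, em2, em2, ep0, ep0, ep0, ep0, ep0, ep0, ep0, ep0, ep0, ep0, ep0, em2, ep0, em2, ep0, em2, ep2, em2], [ep1, em1, ep1, em1, em1, em1, ep1, em1, ep1, em1, ep1, ep1, ep1, ep1, ep1, ep1, em1, em1, em1, em1, ep1, em1, em1, em3], [ep1, ep1, em1, em1, em1, em1, ep1, em1, ep1, ep1, ep1, em1, ep1, em1, ep1, em1, ep1, em1, ep1, em1, ep1, em1, em1, em3], [ep1, em1, ep1, em1, em1, em1, em1, ep1, em1, ep1, em1, ep1, ep1, em1,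 ep1, ep1, ep1, em1, ep1, em1, ep1, em1, em1, em3], [ep2, ep0, ep0, ep0, em2, em2, ep0, ep0, ep0, ep0, ep0, ep0, ep0, ep0, ep0, ep0, ep0, ep2, ep0, em2, ep0, em2, em2, em2], [ep1, em1, ep1, ep1, em1, em1, ep1, em1, ep1, ep1, ep1, ep1, em1, em1, em1, ep1, ep1, em1, ep1, em1, em1, em1, em1, em3], [ep1, ep1, ep1, ep1, em1, em1, em1, em1, ep1, ep1, em1, ep1, em1, ep1, ep1, em1, ep1, em1, em1, em1, ep1, em1, em1, em3], [ep1, ep1, ep1, em1, em1, em1, ep1, ep1, ep1, em1, em1, em1, em1, ep1, em1, ep1, ep1, em1, ep1, em1, ep1, em1, em1, em3], [ep0, ep0, ep0, ep0, ep0, ep0, ep0, ep0, ep0, ep0, ep0, ep0, ep0, ep0, ep0, ep0, ep0, ep0, ep0, ep0, ep0, ep0, ep0, ep0], [em2, ep0, ep0, ep0, ep2, ep2, ep0, ep0, ep0, ep0, ep0, ep0, ep0, ep0, ep0, ep0, ep0, ep2, ep0, ep2, ep0, ep2, ep2, ep6], [ep3, ep1, ep1, ep1, em1, em1, ep1, ep1, ep1, ep1, ep1, ep1, ep1, ep1, ep1, ep1, ep1, em1, ep1, em1, ep1, em1, em1, em1],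 [ep1, ep1, ep1, em3, ep1, ep1, ep1, ep1, ep1, ep1, ep1, ep1, ep1, ep1, ep1, ep1, ep1, ep1, ep1, ep1, ep1, ep1, ep1, ep1], [ep1, ep1, ep1, em1, em1, em1, ep1, ep1, ep1, em1, ep1, ep1, ep1, ep3, ep1, ep1, ep1, ep1, ep1, em1, em1, em1, ep1, ep1], [ep0, ep0, ep2, ep0, ep0, ep0, ep2, ep2, ep0, ep0, ep0, ep2, ep0, ep0, ep0, ep0, ep2, ep0, ep2, ep0, ep0, ep0, ep2, ep2], [ep1, ep1, ep1, em1, ep1, em1, ep1, ep1, ep1, ep1, em1, ep1, ep1, ep1, ep1, em1, ep3, ep1, ep1, em1, ep1, em1, em1, ep1], [ep0, ep0, ep0, ep0, ep0, ep0, ep2, ep0, ep2, ep0, ep2, ep2, ep2, ep0, ep0, ep0, ep2, ep2, ep0, ep0, ep0, ep0, ep0, ep2], [ep0, ep0, ep0, ep0, ep0, ep0, ep0, ep0, ep2, ep2, ep0, ep2, ep0, ep0, ep2, ep0, ep2, ep0, ep2, ep0, ep0, ep2, ep0, ep2], [ep1, ep1, ep1, em1, em1, ep1, em1, ep1, ep1, ep1, em1, ep1, em1, ep1, ep1, ep1, ep1, ep1, ep1, em1, ep1, em1, ep1, ep3], [ep1, ep1, ep1, em1, em1, em1, ep1, ep1, ep1, ep3,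 ep1, ep1, ep1, em1, ep1, ep1, ep1, ep1, ep1, em1, em1, em1, ep1, ep1], [ep1, em1, ep1, ep1, em1, em1, ep1, em1, ep1, ep1, em1, ep3, ep1, ep1, ep1, ep1, ep1, ep1, ep1, em1, ep1, em1, ep1, ep1], [ep1, ep1, ep1, em1, em1, em1, ep1, em1, ep3, ep1, ep1, ep1, em1, ep1, ep1, ep1, ep1, ep1, ep1, ep1, ep1, em1, em1, ep1], [ep0, ep0, ep2, ep0, ep0, ep0, ep0, ep0, ep2, ep2, ep2, ep2, ep0, ep2, ep0, ep0, ep0, ep0, ep0, ep0, ep0, ep0, ep2, ep2], [ep0, ep0, ep0, ep0, ep0, ep0, ep2, ep0, ep2, ep0, ep0, ep0, ep0, ep2, ep2, ep0, ep2, ep0, ep0, ep0, ep2, ep0, ep2, ep2]],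
   [[ep4, ep0, ep0, ep0, ep0, ep0, ep0, ep0, ep0, ep0, ep0, ep0, ep0, ep0, ep0, ep0, ep0, ep0, ep0, ep0, ep0, ep0, ep0, em4], [ep0, ep4, ep0, ep0, ep0, ep0, ep0, ep0, ep0, ep0, ep0, ep0, ep0, ep0, ep0, ep0, ep0, ep0, ep0, ep0, ep0, ep0, ep0, em4], [ep0, ep0, ep4, ep0, ep0, ep0, ep0, ep0, ep0, ep0, ep0, ep0, ep0, ep0, ep0, ep0, ep0, ep0, ep0, ep0, ep0, ep0, ep0, em4], [ep0, ep0, ep0, ep4, ep0, ep0, ep0, ep0, ep0, ep0, ep0, ep0, ep0, ep0, ep0, ep0, ep0, ep0, ep0, ep0, ep0, ep0, ep0, em4], [ep0, ep0, ep0, ep0, ep4, ep0, ep0, ep0, ep0, ep0, ep0, ep0, ep0, ep0, ep0, ep0, ep0, ep0, ep0, ep0, ep0, ep0, ep0, em4], [ep0, ep0, ep0, ep0, ep0, ep4, ep0, ep0, ep0, ep0, ep0, ep0, ep0, ep0, ep0, ep0, ep0, ep0, ep0, ep0, ep0, ep0, ep0, em4], [ep0, ep0, ep0, ep0, ep0, ep0, ep4, ep0, ep0, ep0, ep0, ep0, ep0, ep0, ep0, ep0, ep0, ep0, ep0, ep0, ep0, ep0, ep0, em4], [ep0, ep0, ep0, ep0, ep0, ep0, ep0, ep4, ep0,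 ep0, ep0, ep0, ep0, ep0, ep0, ep0, ep0, ep0, ep0, ep0, ep0, ep0, ep0, em4], [ep0, ep0, ep0, ep0, ep0, ep0, ep0, ep0, ep4, ep0, ep0, ep0, ep0, ep0, ep0, ep0, ep0, ep0, ep0, ep0, ep0, ep0, ep0, em4], [ep0, ep0, ep0, ep0, ep0, ep0, ep0, ep0, ep0, ep4, ep0, ep0, ep0, ep0, ep0, ep0, ep0, ep0, ep0, ep0, ep0, ep0, ep0, em4], [ep0, ep0, ep0, ep0, ep0, ep0, ep0, ep0, ep0, ep0, ep4, ep0, ep0, ep0, ep0, ep0, ep0, ep0, ep0, ep0, ep0, ep0, ep0, em4], [ep0, ep0, ep0, ep0, ep0, ep0, ep0, ep0, ep0, ep0, ep0, ep4, ep0, ep0, ep0, ep0, ep0, ep0, ep0, ep0, ep0, ep0, ep0, em4], [ep0, ep0, ep0, ep0, ep0, ep0, ep0, ep0, ep0, ep0, ep0, ep0, ep4, ep0, ep0, ep0, ep0, ep0, ep0, ep0, ep0, ep0, ep0, em4], [ep0, ep0, ep0, ep0, ep0, ep0, ep0, ep0, ep0, ep0, ep0, ep0, ep0, ep4, ep0, ep0, ep0, ep0, ep0, ep0, ep0, ep0, ep0, em4], [ep0, ep0, ep0, ep0, ep0, ep0, ep0, ep0, ep0, ep0, ep0, ep0, ep0, ep0, ep4, ep0, ep0, ep0, ep0,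 ep0, ep0, ep0, ep0, em4], [ep0, ep0, ep0, ep0, ep0, ep0, ep0, ep0, ep0, ep0, ep0, ep0, ep0, ep0, ep0, ep4, ep0, ep0, ep0, ep0, ep0, ep0, ep0, em4], [ep0, ep0, ep0, ep0, ep0, ep0, ep0, ep0, ep0, ep0, ep0, ep0, ep0, ep0, ep0, ep0, ep4, ep0, ep0, ep0, ep0, ep0, ep0, em4], [ep0, ep0, ep0, ep0, ep0, ep0, ep0, ep0, ep0, ep0, ep0, ep0, ep0, ep0, ep0, ep0, ep0, ep4, ep0, ep0, ep0, ep0, ep0, em4], [ep0, ep0, ep0, ep0, ep0, ep0, ep0, ep0, ep0, ep0, ep0, ep0, ep0, ep0, ep0, ep0, ep0, ep0, ep4, ep0, ep0, ep0, ep0, em4], [ep0, ep0, ep0, ep0, ep0, ep0, ep0, ep0, ep0, ep0, ep0, ep0, ep0, ep0, ep0, ep0, ep0, ep0, ep0, ep4, ep0, ep0, ep0, em4], [ep0, ep0, ep0, ep0, ep0, ep0, ep0, ep0, ep0, ep0, ep0, ep0, ep0, ep0, ep0, ep0, ep0, ep0, ep0, ep0, ep4, ep0, ep0, em4], [ep0, ep0, ep0, ep0, ep0, ep0, ep0, ep0, ep0, ep0, ep0, ep0, ep0, ep0, ep0, ep0, ep0, ep0, ep0, ep0, ep0, ep4, ep0, em4], [ep0, ep0, ep0, ep0, ep0,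 ep0, ep0, ep0, ep0, ep0, ep0, ep0, ep0, ep0, ep0, ep0, ep0, ep0, ep0, ep0, ep0, ep0, ep4, em4], [ep0, ep0, ep0, ep0, ep0, ep0, ep0, ep0, ep0, ep0, ep0, ep0, ep0, ep0, ep0, ep0, ep0, ep0, ep0, ep0, ep0, ep0, ep0, ep0], [ep0, ep0, ep0, ep0, ep0, ep0, ep0, ep0, ep0, ep0, ep0, ep0, ep0, ep0, ep0, ep0, ep0, ep0, ep0, ep0, ep0, ep0, ep0, ep8], [ep1, ep1, ep1, ep1, ep1, ep1, ep1, ep1, ep1, ep1, ep1, ep1, ep1, ep1, ep1, ep1, ep1, ep1, ep1, ep1, ep1, ep1, ep1, em3], [ep2, ep0, ep0, ep0, ep0, ep0, ep0, ep0, ep0, ep0, ep0, ep0, ep2, ep0, ep2, ep0, ep2, ep2, ep2, ep0, ep0, ep0, ep2, ep2], [ep0, ep2, ep0, ep0, ep0, ep0, ep0, ep0, ep0, ep0, ep0, ep0, ep2, ep2, ep2, ep2, ep2, ep0, ep0, ep2, ep0, ep0, ep2, ep0], [ep0, ep0, ep2, ep0, ep0, ep0, ep0, ep0, ep0, ep0, ep0, ep0, ep2, ep2, ep0, ep2, ep0, ep0, ep2, ep0, ep2, ep0, ep2, ep2], [ep0, ep0, ep0, ep2, ep0, ep0, ep0, ep0, ep0, ep0, ep0, ep0, ep2, ep2, ep0,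 ep0, ep0, ep2, ep2, ep2, ep0, ep2, ep2, ep0], [ep0, ep0, ep0, ep0, ep2, ep0, ep0, ep0, ep0, ep0, ep0, ep0, ep2, ep2, ep0, ep0, ep2, ep2, ep0, ep2, ep2, ep0, ep0, ep2], [ep0, ep0, ep0, ep0, ep0, ep2, ep0, ep0, ep0, ep0, ep0, ep0, ep0, ep2, ep2, ep0, ep0, ep2, ep2, ep0, ep2, ep2, ep0, ep2], [ep0, ep0, ep0, ep0, ep0, ep0, ep2, ep0, ep0, ep0, ep0, ep0, ep0, ep0, ep2, ep2, ep0, ep0, ep2, ep2, ep0, ep2, ep2, ep2], [ep0, ep0, ep0, ep0, ep0, ep0, ep0, ep2, ep0, ep0, ep0, ep0, ep2, ep0, ep2, ep2, ep0, ep2, ep2, ep2, ep2, ep0, ep0, ep0], [ep0, ep0, ep0, ep0, ep0, ep0, ep0, ep0, ep2, ep0, ep0, ep0, ep0, ep2, ep0, ep2, ep2, ep0, ep2, ep2, ep2, ep2, ep0, ep0], [ep0, ep0, ep0, ep0, ep0, ep0, ep0, ep0, ep0, ep2, ep0, ep0, ep0, ep0, ep2, ep0, ep2, ep2, ep0, ep2, ep2, ep2, ep2, ep0], [ep0, ep0, ep0, ep0, ep0, ep0, ep0, ep0, ep0, ep0, ep2, ep0, ep2, ep0, ep2, ep2, ep2, ep0, ep0, ep0, ep2, ep2, ep0, ep2], [ep0,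 ep0, ep0, ep0, ep0, ep0, ep0, ep0, ep0, ep0, ep0, ep2, ep0, ep2, ep0, ep2, ep2, ep2, ep0, ep0, ep0, ep2, ep2, ep2]],
   [[ep4, ep0, ep0, ep0, ep0, ep0, ep0, ep0, ep0, ep0, ep0, ep0, ep0, ep0, ep0, ep0, ep0, ep0, ep0, ep0, ep0, ep0, ep0, em4], [ep1, ep1, ep1, ep1, em1, em1, ep1, ep1, ep1, ep1, em1, em1, ep1, em1, ep1, ep1, em1, em1, em1, em1, em1, em1, em1, em3], [ep1, ep1, ep1, ep1, ep1, em1, em1, ep1, em1, ep1, em1, em1, em1, em1, em1, ep1, em1, ep1, em1, ep1, em1, em1, ep1, em3], [ep1, ep1, ep1, ep1, ep1, ep1, ep1, em1, ep1, em1, em1, em1, ep1, em1, em1, em1, em1, em1, em1, ep1, em1, em1, ep1, em3], [ep1, em1, ep1, ep1, ep1, ep1, ep1, ep1, em1, em1, em1, em1, ep1, em1, em1, ep1, em1, ep1, em1, em1, em1, ep1, em1, em3], [ep1, em1, em1, ep1, ep1, ep1, em1, em1, ep1, ep1, em1, em1, ep1, em1, ep1, ep1, em1, ep1, em1, em1, em1, em1, ep1, em3], [ep1, ep1, em1, ep1, ep1, em1, ep1, em1, ep1, em1,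 em1, em1, em1, em1, ep1, ep1, em1, ep1, em1, ep1, em1, ep1, em1, em3], [ep1, ep1, ep1, em1, ep1, em1, em1, ep1, ep1, em1, em1, em1, ep1, em1, ep1, em1, em1, ep1, em1, em1, em1, ep1, ep1, em3], [ep1, ep1, em1, ep1, em1, ep1, ep1, ep1, ep1, ep1, em1, em1, em1, em1, em1, em1, em1, ep1, em1, em1, em1, ep1, ep1, em3], [ep1, ep1, ep1, em1, em1, ep1, em1, em1, ep1, ep1, em1, em1, ep1, em1, em1, ep1, em1, ep1, em1, ep1, em1, ep1, em1, em3], [ep2, ep0, ep0, ep0, ep0, ep0, ep0, ep0, ep0, ep0, ep2, em2, ep0, em2, ep0, ep0, em2, ep0, em2, ep0, em2, ep0, ep0, em2], [ep2, ep0, ep0, ep0, ep0, ep0, ep0, ep0, ep0, ep0, em2, em2, ep0, em2, ep0, ep0, ep2, ep0, em2, ep0, em2, ep0, ep0, em2], [ep1, ep1, em1, ep1, ep1, ep1, em1, ep1, em1, ep1, em1, em1, ep1, em1, ep1, em1, em1, em1, em1, ep1, em1, ep1, em1, em3], [ep2, ep0, ep0, ep0, ep0, ep0, ep0, ep0, ep0, ep0, em2, em2, ep0, ep2, ep0, ep0, em2, ep0, em2, ep0,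 em2, ep0, ep0, em2], [ep1, ep1, em1, em1, em1, ep1, ep1, ep1, em1, em1, em1, em1, ep1, em1, ep1, ep1, em1, ep1, em1, ep1, em1, em1, ep1, em3], [ep1, ep1, ep1, em1, ep1, ep1, ep1, em1, em1, ep1, em1, em1, em1, em1, ep1, ep1, em1, em1, em1, em1, em1, ep1, ep1, em3], [ep2, ep0, ep0, ep0, ep0, ep0, ep0, ep0, ep0, ep0, em2, ep2, ep0, em2, ep0, ep0, em2, ep0, em2, ep0, em2, ep0, ep0, em2], [ep1, em1, ep1, em1, ep1, ep1, ep1, ep1, ep1, ep1, em1, em1, em1, em1, ep1, em1, em1, ep1, em1, ep1, em1, em1, em1, em3], [ep2, ep0, ep0, ep0, ep0, ep0, ep0, ep0, ep0, ep0, em2, em2, ep0, em2, ep0, ep0, em2, ep0, ep2, ep0, em2, ep0, ep0, em2], [ep1, em1, ep1, ep1, em1, em1, ep1, em1, em1, ep1, em1, em1, ep1, em1, ep1, em1, em1, ep1, em1, ep1, em1, ep1, ep1, em3], [ep2, ep0, ep0, ep0, ep0, ep0, ep0, ep0, ep0, ep0, em2, em2, ep0, em2, ep0, ep0, em2, ep0, em2, ep0, ep2, ep0, ep0, em2], [ep1, em1, em1, em1, ep1, em1,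 ep1, ep1, ep1, ep1, em1, em1, ep1, em1, em1, ep1, em1, em1, em1, ep1, em1, ep1, ep1, em3], [ep1, em1, ep1, ep1, em1, ep1, em1, ep1, ep1, em1, em1, em1, em1, em1, ep1, ep1, em1, em1, em1, ep1, em1, ep1, ep1, em3], [ep0, ep0, ep0, ep0, ep0, ep0, ep0, ep0, ep0, ep0, ep0, ep0, ep0, ep0, ep0, ep0, ep0, ep0, ep0, ep0, ep0, ep0, ep0, ep0], [em2, ep0, ep0, ep0, ep0, ep0, ep0, ep0, ep0, ep0, ep2, ep2, ep0, ep2, ep0, ep0, ep2, ep0, ep2, ep0, ep2, ep0, ep0, ep6], [ep3, ep1, ep1, ep1, ep1, ep1, ep1, ep1, ep1, ep1, em1, em1, ep1, em1, ep1, ep1, em1, ep1, em1, ep1, em1, ep1, ep1, em1], [ep2, ep0, ep0, ep0, ep0, ep2, ep0, ep2, ep0, ep0, ep0, ep2, ep0, ep0, ep2, ep0, ep0, ep0, ep2, ep2, ep0, ep0, ep0, ep2], [ep1, ep1, ep1, ep1, em1, ep1, ep1, ep1, em1, ep1, em1, ep1, ep1, ep1, ep3, ep1, em1, em1, em1, ep1, em1, ep1, ep1, ep1], [ep1, ep1, ep1, ep1, ep1, ep1, em1, ep1, em1, ep1, em1, em1, em1, ep1, ep1, ep1,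 em1, em1, ep1, ep1, ep1, ep1, ep1, ep3], [ep1, em1, ep1, ep1, ep1, ep1, ep1, ep1, ep1, ep1, em1, em1, ep1, ep1, ep1, em1, em1, em1, ep1, ep3, em1, ep1, ep1, ep1], [ep1, em1, ep1, ep1, ep1, ep1, ep1, ep1, em1, ep1, em1, ep1, ep1, ep1, ep1, em1, em1, ep1, em1, ep1, ep1, ep1, em1, ep3], [ep1, em1, em1, em1, ep1, ep1, ep1, ep1, ep1, ep1, em1, em1, ep1, ep1, ep1, ep1, em1, ep1, ep1, ep1, ep1, em1, ep1, ep3], [ep0, ep0, ep0, ep0, ep0, ep0, ep2, ep0, ep0, ep0, ep0, ep0, ep0, ep0, ep2, ep2, ep0, ep0, ep2, ep2, ep0, ep2, ep2, ep2], [ep1, ep1, ep1, em1, ep1, ep1, ep1, ep1, em1, ep1, em1, em1, ep1, em1, ep3, em1, em1, ep1, ep1, ep1, ep1, ep1, ep1, ep1], [ep2, ep0, ep0, ep0, ep0, ep0, ep2, ep0, ep0, ep2, em2, ep0, ep0, ep0, ep0, ep0, em2, ep0, ep0, ep0, ep0, ep2, ep2, ep2], [ep1, em1, ep1, em1, em1, ep1, ep1, ep1, ep1, ep1, em1, ep1, ep1, em1, ep1, ep1, em1, ep1, em1, ep3, ep1, ep1, ep1, ep1], [ep1, ep1,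 em1, em1, ep1, ep1, ep1, ep1, em1, ep1, ep1, ep1, ep1, em1, ep1, ep1, em1, em1, em1, ep1, ep1, ep1, ep1, ep3], [ep1, em1, ep1, em1, ep1, ep1, ep1, ep1, ep1, ep1, em1, ep1, em1, ep1, ep1, ep1, ep1, em1, em1, ep1, em1, ep1, ep1, ep3]]]

/-- The unitary matrices. -/
def us : List (List (List ℕ)) :=
  [[[18, 7, 19], [24, 7, 0], [1, 10, 16]],
   [[19, 10, 17], [17, 18, 9], [10, 20, 18]],
   [[5, 20, 0], [5, 5, 0], [0, 0, 4]],
   [[1, 0, 0], [0, 1, 0], [0, 0, 1]],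
   [[4, 0, 0], [0, 4, 0], [0, 0, 1]]]

/-- The lattice points. -/
def lefts : List (List (List ℤ)) :=
  [[[ep2, ep2, ep2, ep2, ep2, ep0, ep0, ep2, ep0, ep0, ep2, ep0, ep2, ep0, ep0, ep0, ep0, ep0, ep0, ep0, ep0, ep0, ep0, ep0], [ep1, ep1, ep1, ep1, ep1, ep1, ep1, ep1, ep1, ep1, ep1, ep1, em3, ep1, ep1, ep1, ep1, ep1, ep1, ep1, ep1, ep1, ep1, ep1], [ep1, ep1, ep1, ep1, ep1, ep1, ep1, ep1, ep1, ep1, em3, ep1, ep1, ep1, ep1, ep1, ep1, ep1, ep1, ep1, ep1, ep1, ep1, ep1], [ep1, ep1, ep1, ep1, ep1, ep1, ep1, em3, ep1, ep1, ep1, ep1, ep1, ep1, ep1, ep1, ep1, ep1, ep1, ep1, ep1, ep1, ep1, ep1], [ep1, ep1, ep1, ep1, em3, ep1, ep1, ep1, ep1, ep1, ep1, ep1, ep1, ep1, ep1, ep1, ep1, ep1, ep1, ep1, ep1, ep1, ep1, ep1], [ep1, ep1, ep1, em3, ep1, ep1, ep1, ep1, ep1, ep1, ep1, ep1, ep1, ep1, ep1, ep1, ep1, ep1, ep1, ep1, ep1, ep1, ep1, ep1], [ep1, ep1, em3, ep1, ep1, ep1, ep1, ep1, ep1, ep1, ep1, ep1, ep1,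 ep1, ep1, ep1, ep1, ep1, ep1, ep1, ep1, ep1, ep1, ep1], [ep1, em3, ep1, ep1, ep1, ep1, ep1, ep1, ep1, ep1, ep1, ep1, ep1, ep1, ep1, ep1, ep1, ep1, ep1, ep1, ep1, ep1, ep1, ep1], [ep2, ep0, ep0, ep0, ep0, ep0, ep0, ep0, ep2, ep2, ep0, ep0, ep2, ep2, ep0, ep2, ep2, ep0, ep0, ep0, ep0, ep0, ep0, ep2], [ep2, ep2, ep0, ep0, ep0, ep0, ep2, ep0, ep0, ep0, ep0, ep2, ep0, ep0, ep2, ep2, ep2, ep0, ep0, ep0, ep0, ep0, ep0, ep2], [ep2, ep0, ep0, ep0, ep2, ep0, ep0, ep0, ep2, ep0, ep0, ep2, ep0, ep2, ep2, ep0, ep0, ep2, ep0, ep0, ep0, ep0, ep0, ep2], [ep2, ep0, ep0, ep0, ep0, ep2, ep2, ep2, ep0, ep0, ep0, ep0, ep0, ep2, ep0, ep0, ep2, ep2, ep0, ep0, ep0, ep0, ep0, ep2], [ep2, ep0, ep2, ep0, ep0, ep0, ep2, ep0, ep0, ep2, ep0, ep0, ep0, ep2, ep2, ep0, ep0, ep0, ep2, ep0, ep0, ep0, ep0, ep2], [ep2, ep0, ep0, ep0, ep0, ep2, ep0, ep0, ep2, ep2, ep2, ep0, ep0, ep0, ep0, ep0, ep0, ep2, ep2, ep0, ep0, ep0, ep0,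 ep2], [ep2, ep0, ep0, ep2, ep0, ep2, ep2, ep0, ep0, ep2, ep0, ep0, ep0, ep0, ep0, ep2, ep0, ep0, ep0, ep2, ep0, ep0, ep0, ep2], [ep2, ep0, ep2, ep0, ep0, ep0, ep0, ep0, ep0, ep2, ep0, ep2, ep0, ep0, ep0, ep0, ep2, ep2, ep0, ep2, ep0, ep0, ep0, ep2], [ep2, ep0, ep0, ep0, ep0, ep2, ep0, ep2, ep0, ep0, ep0, ep2, ep0, ep0, ep2, ep0, ep0, ep0, ep2, ep2, ep0, ep0, ep0, ep2], [ep2, ep0, ep0, ep0, ep2, ep0, ep2, ep0, ep2, ep0, ep0, ep0, ep0, ep0, ep0, ep0, ep2, ep0, ep2, ep2, ep0, ep0, ep0, ep2], [ep2, ep2, ep0, ep0, ep0, ep0, ep0, ep0, ep0, ep0, ep0, ep0, ep0, ep2, ep0, ep2, ep0, ep2, ep2, ep2, ep0, ep0, ep0, ep2], [ep2, ep0, ep0, ep0, ep0, ep0, ep2, ep2, ep2, ep2, ep0, ep2, ep0, ep0, ep0, ep0, ep0, ep0, ep0, ep0, ep2, ep0, ep0, ep2], [ep2, ep0, ep0, ep0, ep2, ep2, ep0, ep0, ep0, ep2, ep0, ep0, ep0, ep0, ep2, ep0, ep2, ep0, ep0, ep0, ep2, ep0, ep0, ep2], [ep2, ep0, ep0, ep0, ep0, ep2, ep0, ep0, ep0,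 ep0, ep0, ep2, ep2, ep0, ep0, ep2, ep0, ep2, ep0, ep0, ep2, ep0, ep0, ep2], [ep2, ep0, ep0, ep2, ep0, ep0, ep0, ep0, ep2, ep0, ep0, ep0, ep0, ep0, ep2, ep2, ep0, ep0, ep2, ep0, ep2, ep0, ep0, ep2], [ep2, ep0, ep0, ep0, ep0, ep0, ep0, ep0, ep0, ep0, ep2, ep2, ep0, ep2, ep0, ep0, ep2, ep0, ep2, ep0, ep2, ep0, ep0, ep2], [ep2, ep0, ep2, ep0, ep0, ep2, ep0, ep0, ep2, ep0, ep0, ep0, ep0, ep2, ep0, ep0, ep0, ep0, ep0, ep2, ep2, ep0, ep0, ep2], [ep2, ep0, ep0, ep0, ep0, ep0, ep2, ep0, ep0, ep0, ep2, ep0, ep0, ep0, ep2, ep0, ep0, ep2, ep0, ep2, ep2, ep0, ep0, ep2], [ep2, ep2, ep0, ep0, ep0, ep2, ep0, ep0, ep0, ep2, ep0, ep2, ep0, ep2, ep0, ep0, ep0, ep0, ep0, ep0, ep0, ep2, ep0, ep2], [ep2, ep0, ep0, ep0, ep0, ep2, ep2, ep0, ep2, ep0, ep0, ep0, ep2, ep0, ep2, ep0, ep0, ep0, ep0, ep0, ep0, ep2, ep0, ep2], [ep2, ep0, ep0, ep0, ep0, ep0, ep0, ep2, ep0, ep2, ep0, ep0, ep0, ep0, ep2, ep2, ep0, ep2, ep0,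 ep0, ep0, ep2, ep0, ep2], [ep2, ep0, ep2, ep0, ep0, ep2, ep0, ep0, ep0, ep0, ep0, ep0, ep0, ep0, ep0, ep2, ep2, ep0, ep2, ep0, ep0, ep2, ep0, ep2], [ep2, ep0, ep0, ep2, ep0, ep0, ep2, ep0, ep0, ep0, ep0, ep2, ep0, ep0, ep0, ep0, ep0, ep2, ep2, ep0, ep0, ep2, ep0, ep2], [ep2, ep0, ep0, ep0, ep0, ep0, ep0, ep0, ep2, ep0, ep2, ep2, ep0, ep0, ep0, ep2, ep0, ep0, ep0, ep2, ep0, ep2, ep0, ep2]],
    [[ep2, ep0, ep0, ep2, ep0, ep0, ep0, ep0, ep0, ep0, ep0, ep0, ep0, ep2, ep2, ep0, ep2, ep0, ep0, ep2, ep0, ep2, ep0, ep2], [ep2, ep0, ep0, ep0, ep2, ep0, ep2, ep0, ep0, ep0, ep0, ep0, ep0, ep2, ep0, ep2, ep0, ep0, ep0, ep0, ep2, ep2, ep0, ep2], [ep2, ep2, ep0, ep0, ep0, ep0, ep0, ep0, ep2, ep0, ep0, ep0, ep0, ep0, ep0, ep0, ep2, ep2, ep0, ep0, ep2, ep2, ep0, ep2], [ep2, ep0, ep0, ep0, ep0, ep0, ep0, ep0, ep0, ep2, ep0, ep0, ep2, ep0, ep0, ep0, ep0, ep0, ep2, ep2, ep2, ep2, ep0, ep2], [ep2, ep0, ep0, ep0,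 ep0, ep2, ep0, ep0, ep0, ep0, ep2, ep0, ep0, ep2, ep2, ep2, ep0, ep0, ep0, ep0, ep0, ep0, ep2, ep2], [ep2, ep0, ep0, ep2, ep0, ep2, ep0, ep0, ep2, ep0, ep0, ep2, ep0, ep0, ep0, ep0, ep2, ep0, ep0, ep0, ep0, ep0, ep2, ep2], [ep2, ep0, ep2, ep0, ep0, ep0, ep2, ep0, ep2, ep0, ep0, ep0, ep0, ep0, ep0, ep2, ep0, ep2, ep0, ep0, ep0, ep0, ep2, ep2], [ep2, ep0, ep0, ep0, ep2, ep0, ep0, ep0, ep0, ep2, ep0, ep2, ep0, ep0, ep0, ep2, ep0, ep0, ep2, ep0, ep0, ep0, ep2, ep2], [ep2, ep0, ep0, ep0, ep0, ep0, ep0, ep0, ep0, ep0, ep0, ep0, ep2, ep0, ep2, ep0, ep2, ep2, ep2, ep0, ep0, ep0, ep2, ep2], [ep2, ep0, ep0, ep0, ep0, ep0, ep2, ep0, ep0, ep0, ep0, ep2, ep2, ep2, ep0, ep0, ep0, ep0, ep0, ep2, ep0, ep0, ep2, ep2], [ep2, ep2, ep0, ep0, ep0, ep0, ep0, ep0, ep2, ep2, ep0, ep0, ep0, ep0, ep2, ep0, ep0, ep0, ep0, ep2, ep0, ep0, ep2, ep2], [ep2, ep0, ep0, ep2, ep0, ep0, ep0, ep0, ep0, ep2, ep0, ep0, ep0, ep2,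 ep0, ep0, ep0, ep2, ep0, ep0, ep2, ep0, ep2, ep2], [ep2, ep2, ep0, ep0, ep0, ep2, ep2, ep0, ep0, ep0, ep0, ep0, ep0, ep0, ep0, ep0, ep0, ep0, ep2, ep0, ep2, ep0, ep2, ep2], [ep2, ep0, ep0, ep0, ep0, ep0, ep0, ep2, ep0, ep0, ep0, ep0, ep0, ep0, ep0, ep2, ep2, ep0, ep0, ep2, ep2, ep0, ep2, ep2], [ep2, ep0, ep0, ep0, ep0, ep0, ep2, ep0, ep0, ep2, ep2, ep0, ep0, ep0, ep0, ep0, ep2, ep0, ep0, ep0, ep0, ep2, ep2, ep2], [ep2, ep0, ep0, ep0, ep0, ep0, ep0, ep2, ep2, ep0, ep0, ep0, ep0, ep2, ep0, ep0, ep0, ep0, ep2, ep0, ep0, ep2, ep2, ep2], [ep2, ep0, ep0, ep0, ep2, ep2, ep0, ep0, ep0, ep0, ep0, ep0, ep0, ep0, ep0, ep0, ep0, ep2, ep0, ep2, ep0, ep2, ep2, ep2], [ep2, ep0, ep2, ep0, ep0, ep0, ep0, ep0, ep0, ep0, ep0, ep2, ep0, ep0, ep2, ep0, ep0, ep0, ep0, ep0, ep2, ep2, ep2, ep2], [em4, ep0, ep0, ep0, ep0, ep0, ep0, ep0, ep0, ep0, ep0, ep0, ep0, ep0, ep0, ep0, ep0, ep0, ep0, ep0, ep0, ep0, ep0, ep4],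 [ep4, ep0, ep0, ep0, ep0, ep0, ep0, ep0, ep0, ep0, ep0, ep0, ep0, ep0, ep0, ep0, ep0, ep0, ep0, ep0, ep0, ep0, ep0, ep4], [ep1, ep1, ep1, ep1, ep1, ep1, ep1, ep1, ep1, ep1, ep1, ep1, ep1, ep1, ep1, ep1, ep1, ep1, ep1, ep1, ep1, ep1, ep1, ep5]]]

/-- The isotropic points. -/
def rights : List (List (List ℕ)) :=
  [[[1, 2, 0], [1, 3, 0], [1, 6, 0], [1, 9, 0], [1, 21, 0], [1, 24, 0], [1, 5, 1], [1, 11, 1], [1, 14, 1], [1, 16, 1], [1, 19, 1], [1, 20, 1], [1, 0, 2], [0, 1, 2], [1, 0, 3], [0, 1, 3], [1, 5, 4], [1, 11, 4], [1, 14, 4], [1, 16, 4], [1, 19, 4], [1, 20, 4], [1, 1, 5], [1, 4, 5], [1, 12, 5], [1, 13, 5], [1, 17, 5], [1, 18, 5], [1, 0, 6], [0, 1, 6], [1, 7, 7], [1, 8, 7]],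
    [[1, 10, 7], [1, 15, 7], [1, 22, 7], [1, 23, 7], [1, 7, 8], [1, 8, 8], [1, 10, 8], [1, 15, 8], [1, 22, 8], [1, 23, 8], [1, 0, 9], [0, 1, 9], [1, 7, 10], [1, 8, 10], [1, 10, 10], [1, 15, 10], [1, 22, 10], [1, 23, 10], [1, 1, 11], [1, 4, 11], [1, 12, 11], [1, 13, 11], [1, 17, 11], [1, 18, 11], [1, 5, 12], [1, 11, 12], [1, 14, 12], [1, 16, 12], [1, 19, 12], [1, 20, 12], [1, 5, 13], [1, 11, 13]],
    [[1, 14, 13], [1, 16, 13], [1, 19, 13], [1, 20, 13], [1, 1, 14], [1, 4, 14], [1, 12, 14], [1, 13, 14], [1, 17, 14], [1, 18, 14], [1, 7, 15], [1, 8, 15], [1, 10, 15], [1, 15, 15], [1, 22, 15], [1, 23, 15], [1, 1, 16], [1, 4, 16], [1, 12, 16], [1, 13, 16], [1, 17, 16], [1, 18, 16], [1, 5, 17], [1, 11, 17], [1, 14, 17], [1, 16, 17], [1, 19, 17], [1, 20, 17], [1, 5, 18], [1, 11, 18], [1, 14, 18], [1, 16, 18]],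
    [[1, 19, 18], [1, 20, 18], [1, 1, 19], [1, 4, 19], [1, 12, 19], [1, 13, 19], [1, 17, 19], [1, 18, 19], [1, 1, 20], [1, 4, 20], [1, 12, 20], [1, 13, 20], [1, 17, 20], [1, 18, 20], [1, 0, 21], [0, 1, 21], [1, 7, 22], [1, 8, 22], [1, 10, 22], [1, 15, 22], [1, 22, 22], [1, 23, 22], [1, 7, 23], [1, 8, 23], [1, 10, 23], [1, 15, 23], [1, 22, 23], [1, 23, 23], [1, 0, 24], [0, 1, 24]]]

/-- The tables. -/
def tab : List ℕ :=
  [0x6a658347416b6386a27ca335713da43c896d5eb2469e5761a85bac84627d4539a98e3fa080a7688b404d42a67a944aa143a554506e55389b7f496fb07e985c90878192449a8d4b8597679d7995abb1994c563670ad825f603b727b91515d88665a8a643e693a93af4f48ae6c528faa539c4e58969f59378c7873747675773425321d16310407011f241718202f2d1003261e152822021b2c090d270f30110e2e0a2b1408062a1a13330b2923190c0512211c00,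
   0x9f4b364a8ba97a61484ea69d564351ae76b27262687b758d936f3d475386a47ead395b3b64b1905278975c4f46654d67a298887d77834c58798ea19a96aa70638ca7a3855e50738a843f593a92ab696637406a3e898f8294449c5f423c71af806da074916c8754a895ac45817c9e575ab0413849556e9b7f5d60996ba535341632330a1b2a2f110d2613081825221f0c28101c311420240919271e231d17122c0702212b01030e06152d041a05292e0f0b3000,
   0x7a855d749a5061488346a07eab949867915b78ae434445559664a3a44d80955e6f6b87ac8f6675a173814aa85152af6e7c9c598e8b63405cb1b27b5477848d4f9f6271aa939b3bad72825f605792886ca5766897653c4e8a5370a98c6aa27f3e86796da790564142695a49583d7d9e4b4c9d99a63fb047893938373a3635340e321d33241527261f1c0812162d21090d30251a14182c100b1b0f2e0301111e072a2b0c2313190429200206170a2805222f3100,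
   0xb2b1b0afaeadacabaaa9a8a7a6a5a4a3a2a1a09f9e9d9c9b9a999897969594939291908f8e8d8c8b8a898887868584838281807f7e7d7c7b7a797877767574737271706f6e6d6c6b6a696867666564636261605f5e5d5c5b5a595857565554535251504f4e4d4c4b4a494847464544434241403f3e3d3c3b3a393837363534333231302f2e2d2c2b2a292827262524232221201f1e1d1c1b1a191817161514131211100f0e0d0c0b0a09080706050403020100,
   0x52515857565554535e5d5c5b5a59605f504f4e4d4c4b6c6b6a6968677271706f6e6d7877767574737e7d7c7b7a796665646362618a8988878685908f8e8d8c8b9695949392919c9b9a99989784838281807fa4a3aaa9a8a7a6a5b0afaeadacabb2b1a2a1a09f9e9d403f3e3d3c3b424144434a49484746453a39383736353417322d072f1f3116180420101d012524231321292e1127050608192b332c1415220c1e280f030d120a0b091a301b1c2a0e022600]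

/-- Level 0. -/
def lev0 : StabCert.Lev :=
  ⟨53, [0, 1, 2, 3, 4],
   [[], [0], [0, 0], [1, 0], [2, 0], [4, 0], [0, 0, 0], [1, 0, 0], [2, 0, 0], [4, 0, 0], [0, 1, 0], [1, 1, 0], [2, 1, 0], [4, 1, 0], [0, 2, 0], [1, 2, 0], [2, 2, 0], [4, 2, 0], [0, 4, 0], [1, 4, 0], [0, 0, 0, 0], [1, 0, 0, 0], [2, 0, 0, 0], [4, 0, 0, 0], [0, 1, 0, 0], [1, 1, 0, 0], [0, 2, 0, 0], [2, 2, 0, 0], [4, 2, 0, 0], [0, 4, 0, 0], [1, 4, 0, 0], [0, 0, 1, 0], [1, 0, 1, 0], [4, 0, 1, 0], [0, 1, 1, 0], [1, 1, 1, 0], [2, 1, 1, 0], [4, 1, 1, 0], [0, 2, 1, 0], [1, 2, 1, 0], [2, 2, 1, 0], [4, 2, 1, 0], [0, 4, 1, 0], [1, 4, 1, 0], [0, 0, 2, 0], [2, 0, 2, 0], [4, 0, 2, 0], [0, 1, 2, 0], [2, 1, 2, 0], [4, 1, 2, 0], [0, 2, 2, 0], [1, 2, 2, 0], [2, 2, 2, 0], [4, 2, 2, 0], [0, 4, 2, 0], [1, 4, 2, 0], [2, 0, 4, 0], [4, 0, 4, 0], [0, 1, 4, 0], [2, 1, 4, 0], [4, 1, 4, 0], [0, 0, 0, 0, 0], [1, 0, 0, 0, 0], [2, 0, 0, 0, 0], [4, 0, 0, 0,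 0], [0, 1, 0, 0, 0], [1, 1, 0, 0, 0], [2, 1, 0, 0, 0], [4, 2, 0, 0, 0], [0, 4, 0, 0, 0], [0, 0, 1, 0, 0], [1, 0, 1, 0, 0], [4, 0, 1, 0, 0], [0, 1, 1, 0, 0], [1, 1, 1, 0, 0], [2, 1, 1, 0, 0], [4, 1, 1, 0, 0], [1, 0, 2, 0, 0], [4, 0, 2, 0, 0], [0, 2, 2, 0, 0], [1, 2, 2, 0, 0], [4, 2, 2, 0, 0], [4, 0, 4, 0, 0], [0, 1, 4, 0, 0], [1, 1, 4, 0, 0], [1, 0, 0, 1, 0], [0, 1, 0, 1, 0], [1, 1, 0, 1, 0], [4, 1, 0, 1, 0], [0, 0, 1, 1, 0], [2, 0, 1, 1, 0], [2, 1, 1, 1, 0], [4, 1, 1, 1, 0], [0, 2, 1, 1, 0], [0, 4, 1, 1, 0], [1, 4, 1, 1, 0], [0, 0, 2, 1, 0], [4, 0, 2, 1, 0], [0, 1, 2, 1, 0], [4, 2, 2, 1, 0], [2, 0, 4, 1, 0], [0, 0, 0, 2, 0], [1, 2, 0, 2, 0], [2, 2, 0, 2, 0], [4, 2, 0, 2, 0], [0, 0, 1, 2, 0], [1, 0, 1, 2, 0], [0, 4, 1, 2, 0], [0, 1, 2, 2, 0], [4, 2, 2, 2, 0], [0, 0, 4, 2, 0], [2, 1, 4, 2, 0], [4, 1, 4, 2, 0], [4, 2, 0, 4, 0], [0, 0, 1, 4, 0], [1, 4, 1, 4, 0], [4, 1, 0, 0, 0, 0], [4, 2, 0, 0,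 0, 0], [0, 0, 1, 0, 0, 0], [2, 0, 4, 0, 0, 0], [2, 1, 1, 1, 0, 0], [4, 1, 1, 1, 0, 0], [1, 0, 2, 2, 0, 0], [2, 1, 1, 4, 0, 0], [0, 1, 1, 0, 1, 0], [0, 0, 0, 1, 4, 0]],
   [(1, []), (2, []), (6, []), (10, []), (14, []), (18, []), (20, []), (24, []), (26, []), (29, []), (31, []), (34, []), (38, []), (42, []), (44, []), (47, []), (50, []), (54, []), (36, [1, 4, 2, 2, 1, 2, 2, 2, 4]), (58, []), (61, []), (65, []), (3, [4, 1, 4, 2, 1, 1, 2]), (69, []), (70, []), (73, []), (74, [2, 2, 1, 1, 1]), (79, []), (46, [4, 1, 4, 1, 2, 1, 1, 2, 4]), (80, [4, 1, 1, 1, 2]), (83, []), (27, [2, 1, 4, 2, 2, 1, 4]), (86, []), (30, [1, 1, 4, 1, 1, 1, 2, 4]), (89, []), (22, [1, 4, 1, 4]), (93, []), (94, []), (96, []), (98, []), (66, [1, 1, 4, 1, 1, 1, 2, 2]), (82, [4, 2, 2, 1, 1, 1, 4]), (43, [4, 1, 2, 1, 2, 1, 1, 2, 2, 2]), (45, [2, 1, 4, 1, 4, 1]), (101, []), (64, [2, 2, 1, 1, 1, 2, 2, 2, 4]), (90, [4, 2, 2, 2, 1,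 2]), (105, []), (33, [1, 2, 1, 4, 1, 4, 1, 4]), (107, []), (78, [4, 1, 2, 1, 2, 1, 2, 2]), (108, []), (97, [1, 2, 1, 1, 4]), (87, [1, 2, 1, 2, 2, 1, 1, 2, 2, 2, 4]), (110, []), (16, [4, 1, 1, 1, 1, 1, 2, 2, 2]), (37, [4, 1, 2, 2, 2, 1, 1, 2, 2, 2]), (103, [1, 2, 1, 2, 1, 1, 2, 2, 2]), (114, []), (40, [2, 2, 1, 1, 1, 2]), (5, [2, 1, 4, 2, 1, 1, 1, 2, 2, 2]), (72, [4, 1, 2, 2, 1, 1, 2, 2, 4]), (13, [2, 2, 1, 4, 1]), (67, [4, 1, 1, 1, 2, 2, 4]), (84, [4, 2, 1, 4, 2, 2, 1, 2]), (118, []), (56, [1, 2, 1, 1, 1, 1, 1, 4]), (7, [4, 1, 2, 2, 1, 1, 1]), (28, [2, 2, 1, 2]), (112, [1, 2, 1, 1, 1, 1, 1, 2, 2, 4]), (17, [1, 2, 1, 4, 2, 1, 2, 2, 2, 4]), (77, [4, 1, 4, 2, 1, 2, 2]), (117, [1, 1, 2, 1, 2, 1]), (76, [1, 2, 1, 4, 1, 4, 1, 2, 2, 2, 4]), (39, [1, 1, 4, 2, 2, 2, 1, 2, 2]), (60, [1, 2, 2, 1, 2, 1, 1, 2]), (41, [1, 2, 2, 2, 1, 2]), (59, [1, 2, 1, 1, 1, 1, 1, 4]), (111, [2, 1, 4, 2, 2, 1]), (109, [4,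 2, 2, 1, 1, 2, 1, 2, 2, 2]), (53, [4, 2, 1, 1, 1, 1, 1, 2, 2, 2, 4]), (116, [2]), (32, [1, 1, 2, 4]), (68, [4, 2, 2, 1, 4, 1, 4]), (99, [2, 2, 1, 1, 4]), (121, [4, 1, 1, 1, 1, 1, 2, 2, 2]), (106, [4, 1, 2, 1]), (124, []), (19, [1, 4, 2, 1, 1, 2, 1, 2, 2]), (113, [2, 2, 1, 1, 2, 1]), (48, [2, 2, 2, 1, 1, 1, 4]), (91, [4, 1, 4, 2, 1, 1, 2]), (104, [1, 4, 1, 2, 1, 1, 2, 2]), (122, [2, 1, 2, 1, 4, 2, 1]), (71, [4, 2, 1, 1, 4, 1, 2, 2, 2]), (75, [2, 2, 1, 1, 2, 2]), (11, [1, 4, 2, 1, 2]), (4, [1, 1, 2]), (102, [2, 1, 2, 1, 4, 2, 1]), (62, [2, 1, 4, 1, 2, 2, 4]), (100, [4, 1, 1, 1, 1, 1, 2, 2, 4]), (49, [2, 2, 4]), (51, [2, 1, 2, 1]), (21, [4, 1, 1, 1]), (9, [1, 4, 2, 2, 1, 1, 2, 1, 2, 2, 2, 4]), (120, [2, 1, 1, 2, 1, 2, 1, 2, 2, 2]), (25, [2, 2, 2, 1, 2, 2, 2, 4]), (52, [2, 2, 2, 1, 1, 1, 2]), (8, [1, 4, 1, 2, 1, 1, 4]), (35, [1, 2, 2, 2, 1, 1, 1]), (63, [4, 2, 1, 4, 2, 2, 1, 4]), (23, [2, 2, 2,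 1, 2, 2, 2]), (55, [1, 2, 1, 4, 1, 4, 1, 2, 2, 2]), (123, [4, 2, 1, 1, 1, 4]), (125, []), (81, [4, 1, 4, 2, 1, 2]), (88, [1, 4, 2, 1, 2, 2]), (0, [1, 1, 1, 1, 1, 2, 2, 4]), (119, [4, 1, 4, 2, 1, 1, 2, 2, 2]), (85, [2, 1, 1, 1, 1, 1, 2, 2, 2]), (15, [2, 1, 2, 1, 1, 2]), (57, [1, 1, 1, 4, 1, 1, 1, 2, 2]), (95, [1, 1, 4, 2, 2, 2, 1, 2, 2]), (12, [2, 1, 4, 2, 1, 2, 2, 4]), (92, [1, 1, 1, 1]), (115, [4, 2, 1, 1, 2, 2, 2, 4]), (0, [1]), (3, []), (7, []), (11, []), (15, []), (19, []), (21, []), (25, []), (5, [1, 4, 2, 1, 1, 1, 2, 2, 2]), (30, []), (32, []), (35, []), (39, []), (43, []), (33, [4, 1, 4, 1, 2, 1, 2, 2, 2]), (45, [1, 1, 2, 1, 2]), (51, []), (55, []), (41, [1, 4, 1, 2, 1, 2, 1, 2, 2, 2]), (16, [4, 2, 1, 1, 2, 4]), (62, []), (66, []), (36, [4, 2, 1, 1, 1, 2, 4]), (69, [4, 2, 1, 4, 1, 2, 4]), (71, []), (74, []), (77, []), (80, []), (57, [1, 2, 1, 1, 1, 1, 1, 2, 4]), (9, [4, 1, 2, 4]), (84,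 []), (85, []), (87, []), (26, [2, 2, 2, 1, 1, 4]), (67, [4, 1, 2, 1, 2, 1, 1, 2, 2]), (1, [4, 2, 1, 1, 2, 4]), (59, [4, 1, 1, 2, 1, 2, 1]), (95, []), (79, [2, 1, 2, 1, 2, 1, 1, 2, 2]), (97, [1, 4, 2, 2, 2, 1, 2, 4]), (82, [1, 2, 2, 2, 1, 1, 2, 4]), (58, [2, 1, 4, 2, 1, 2, 2, 2, 4]), (47, [1, 4, 2, 2, 1, 1, 2, 1, 2, 2, 4]), (40, [4, 2, 1, 1, 2, 4]), (2, [1, 4, 1, 2, 4]), (102, []), (96, [4, 1, 2, 2, 1, 1, 2, 2, 4]), (106, []), (83, [1, 1, 4, 2, 2, 2, 1, 2]), (44, [2, 1, 4, 1, 4, 1, 2, 2, 2]), (48, [2, 2, 2, 1, 1, 2, 2, 4]), (6, [1, 1, 2, 2]), (78, [4, 2, 1, 2, 2, 1, 1, 1, 2, 2]), (104, [4, 1, 4, 2, 2, 1, 2]), (98, [2, 1, 4, 2, 2, 1, 2, 4]), (65, [1, 4, 2, 2, 2, 1, 2, 4]), (20, [1, 4, 2, 2, 1, 1, 2, 1, 2, 2, 2]), (105, [1, 1, 1, 2, 2, 1, 2, 4]), (113, [2, 1, 2, 1, 2, 1, 1, 2, 2, 2]), (42, [1, 2, 1, 2, 2, 4]), (115, []), (50, [4, 1, 4, 1, 2, 1, 2, 2, 4]), (99, [2, 4]), (75, [1, 4, 2, 1, 4]), (107,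 [1, 2, 2, 1, 2, 1, 1, 2, 2, 2]), (52, [4, 2, 2, 1, 2, 2]), (8, [1, 2, 2, 1]), (13, [4, 1, 1, 4, 1, 2, 2, 2, 4]), (93, [1, 4, 1, 4, 1, 2]), (53, [1, 4, 1, 4, 1, 2]), (73, [2, 2, 1, 4, 1, 4]), (119, [1, 1, 4, 2, 2, 2, 1, 2]), (111, [4, 1, 2, 1, 2, 1, 4]), (22, [1, 4, 2, 2, 2, 1]), (88, [2, 1, 2, 1, 2, 2, 4]), (100, [2, 2, 1, 1, 2, 2, 2]), (101, [1, 2, 1, 4, 1, 4, 1]), (109, [2, 1, 1, 1]), (103, [4, 2, 1, 1, 1, 1, 1, 2]), (122, []), (72, [1, 1, 2, 4]), (46, [4, 1, 2, 1, 2, 1, 1, 4]), (64, [4, 2, 1, 2, 2, 1, 1, 2, 2]), (31, [1, 4, 1, 2, 1, 1, 2, 2, 4]), (108, [2, 1, 1, 1, 1, 2, 2, 4]), (91, [4, 1, 4, 1, 2, 1, 2, 2, 2]), (117, [2, 2, 1, 1]), (27, [2, 1, 4, 2, 1, 2, 2, 4]), (94, [4, 2, 1, 1, 1, 1, 1, 2, 2]), (54, [4, 2, 2, 1, 4, 1, 2, 2]), (110, [4, 2, 1, 1, 4, 1, 2, 4]), (116, [2, 1, 2, 1, 1, 2, 2, 2]), (56, [4, 1, 2, 1, 2, 1, 1, 2, 2, 2, 4]), (28, [4, 1, 1, 1, 1, 1, 2, 2, 2]), (49, [4, 2, 2, 1,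 1, 2, 1, 2, 2]), (23, [1, 1, 2, 2]), (4, [4, 1, 1, 1, 4, 1, 2, 4]), (14, [2, 1, 1, 1, 4]), (68, [4, 1, 2, 2, 1, 1, 2]), (38, [1, 1, 2, 1, 2, 1, 4]), (124, [1, 4, 2, 1, 2, 2, 2]), (24, [1, 2, 2, 1, 2, 2, 4]), (112, [4, 2, 1, 4, 2, 2, 1, 2, 2, 2, 4]), (123, [4, 1, 4, 1, 2, 1, 2, 2, 2, 4]), (90, [1, 4, 2, 1, 4, 1, 2]), (89, [1, 4, 1, 2]), (70, [2, 2, 2, 1, 4, 1, 2, 4]), (34, [1, 1, 4, 2, 1, 1, 1, 2, 2, 2]), (86, [2, 2, 2, 1, 4, 1, 2, 2, 4]), (12, [4, 1, 1, 2, 1, 2, 1]), (37, [2, 2, 1, 2, 1, 1, 2, 2, 2, 4]), (120, [1, 2, 1, 1, 2, 2]), (81, [4, 1, 4, 2, 1, 2, 2, 4]), (63, [4, 2, 1, 1, 2, 1, 2, 2]), (76, [2, 1, 2]), (114, [2, 1, 1, 1, 1, 1, 2, 2, 2]), (61, [4, 2, 1, 1, 2, 1, 2, 1, 2, 2, 2, 4]), (125, [1, 2, 1, 4, 2, 1, 2, 2, 2, 4]), (17, [1, 4, 1, 4]), (60, [4, 1, 1, 1, 4, 1, 2, 2]), (10, [1, 1, 4, 2, 2, 2, 1, 2, 2]), (121, [1, 1, 4, 2, 1, 1, 1, 2]), (92, [1, 2, 1, 1, 2, 1, 2, 2, 2]), (118, [2, 1,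 1, 1, 1, 1, 2, 2, 4]), (18, [2, 1, 1, 1, 1, 2, 2]), (29, [4, 1, 2, 1, 2, 1, 1, 2, 2, 4]), (0, [2]), (4, []), (8, []), (12, []), (16, []), (17, []), (22, []), (7, [1, 2, 2, 2, 1, 1, 2]), (27, []), (28, []), (18, [2, 1, 1, 2]), (36, []), (40, []), (41, []), (45, []), (48, []), (52, []), (53, []), (56, []), (59, []), (63, []), (67, []), (11, [2, 1, 2, 2, 1, 1, 2, 2, 4]), (68, []), (43, [4, 1, 2, 2, 2, 4]), (75, []), (46, [4, 1, 2, 1, 2, 1, 1, 2, 2, 2, 4]), (47, [4, 1, 1, 2, 2, 2, 4]), (81, []), (33, [1, 2, 1, 1, 2, 1, 2, 4]), (42, [4, 1, 4, 2, 1, 2, 4]), (21, [4, 1, 4, 1, 2, 2, 2, 4]), (69, [1, 4, 2, 2, 1, 1, 2, 1, 2]), (57, [2, 1, 1, 2]), (90, []), (91, []), (23, [4, 1, 2, 2, 2, 4]), (71, [4, 2, 1, 2, 4]), (25, [1, 1, 1, 2, 2, 4]), (84, [2, 1, 1, 1, 4, 1, 2, 2, 2]), (87, [1, 4, 2, 2, 1, 2, 4]), (99, []), (100, []), (15, [1, 4, 2, 1, 4]), (96, [1, 2, 2, 1, 2, 1, 1, 2]), (103, []), (104, []), (9,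 [2, 2, 2, 1, 1, 2, 2, 4]), (72, [1, 4, 1, 2, 1, 2, 1, 2, 2, 2]), (58, [2, 1, 2, 1, 1, 2, 2]), (61, [1, 4, 2, 1, 1, 1, 2, 2, 2]), (54, [4, 1, 4, 1, 2, 1, 2, 2, 2]), (5, []), (109, []), (105, [2, 1, 2, 1, 4, 2, 1, 2, 2, 4]), (111, []), (29, [2, 1, 1, 2, 1, 2, 1, 2, 2]), (113, []), (24, [1, 1, 1, 2, 2, 1, 4]), (106, [2, 2, 1, 1, 1, 2, 2, 2, 4]), (51, [2, 1, 4, 2, 1, 2, 4]), (80, [1, 2, 1, 1, 2, 1, 2, 2]), (55, [4, 1, 4, 1, 2, 2]), (92, [2, 4]), (117, []), (62, [4, 1, 1, 2, 4]), (34, [2, 1, 1, 1, 4, 1, 2]), (114, [2, 1, 4, 2, 2, 1, 4]), (37, [2, 1, 2, 2, 1, 1, 2, 2, 4]), (119, []), (31, [1, 2, 1, 2, 1, 1, 2, 2]), (6, [1, 1, 4, 2, 2, 2, 1, 2, 2, 2]), (98, [2, 1, 1, 1]), (2, [1, 2, 1, 1, 1, 1, 1, 2, 2, 2]), (120, []), (102, [1, 2, 2, 4]), (83, [1, 4, 2, 2, 2, 1, 2, 4]), (107, [2, 2, 2, 1, 1, 2, 2, 2]), (14, [4, 1, 2, 1, 2, 1, 1, 2, 2, 2, 4]), (66, [4, 2, 2, 1, 4, 1, 2, 4]), (108, [2, 2, 1, 1, 1, 2]),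 (73, [2, 2, 2, 1, 4, 1, 2, 4]), (10, [1, 2, 1, 1, 2, 1, 2, 4]), (86, [1, 2, 2, 2, 1, 1, 2, 2]), (123, []), (3, [4, 2, 1, 1, 2, 1, 2, 2, 2]), (38, [2, 2, 2, 1, 1, 4]), (13, [2, 1, 2, 1, 2, 1, 1, 4]), (39, [1, 2, 2, 2, 1, 2, 4]), (64, [2, 1, 1]), (79, [1, 4, 1, 2, 1, 1]), (20, [2, 2, 2]), (89, [2, 2, 1, 1, 4]), (50, [4, 2, 1, 1, 1, 4]), (115, [1, 2, 1, 4, 2, 2, 1, 2, 2, 4]), (116, [1, 2, 1, 4, 2, 2, 1, 2, 2, 2]), (121, [2, 1, 4, 1, 4, 1, 2]), (76, [1, 1, 1, 2, 2, 4]), (49, [2, 1, 4, 2, 1, 1, 1, 2]), (85, [2, 1, 1, 2, 1, 2, 2, 2, 4]), (70, [4, 2, 1, 1, 4, 1]), (60, [2, 1, 1, 2, 1, 2, 4]), (97, [2, 2, 1, 2, 1, 1, 2, 2, 4]), (26, [4, 2, 1, 4, 2, 2, 1, 2, 2]), (110, [2, 1, 2, 1, 2, 2, 2, 4]), (19, [4, 1, 4, 1, 2, 2]), (101, [4, 2, 2, 1, 1, 1, 2, 4]), (122, [2, 2, 1, 1, 2, 1, 2, 2, 2, 4]), (77, [1, 4, 1, 4, 1, 2, 2]), (1, []), (78, [4, 1, 2, 1, 1]), (95, [1, 4, 2, 1, 4]), (124, [2, 1, 2, 2, 2]), (82,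 [2, 1, 1, 2, 1, 2, 1, 2, 2]), (30, [1, 2, 1, 2, 2, 1, 1, 2, 2, 2]), (74, [1, 4, 2, 1, 2, 2, 2, 4]), (112, [4, 1, 4, 1, 2, 2]), (35, [2, 4]), (88, [2, 1, 1, 2, 2]), (118, [1, 2, 2, 2, 1, 1, 1]), (44, [2, 1, 1, 1, 1, 1, 2, 4]), (125, [1, 4, 2, 2, 1]), (93, [2, 1, 1, 1, 1, 1, 2, 2, 4]), (32, [2, 1, 2, 1, 2, 2, 4]), (65, [4, 1, 4, 1, 2, 2, 4]), (94, [4, 1, 4, 2, 1, 2, 2, 2]), (0, []), (1, []), (2, []), (3, []), (4, []), (5, []), (6, []), (7, []), (8, []), (9, []), (10, []), (11, []), (12, []), (13, []), (14, []), (15, []), (16, []), (17, []), (18, []), (19, []), (20, []), (21, []), (22, []), (23, []), (24, []), (25, []), (26, []), (27, []), (28, []), (29, []), (30, []), (31, []), (32, []), (33, []), (34, []), (35, []), (36, []), (37, []), (38, []), (39, []), (40, []), (41, []), (42, []), (43, []), (44, []), (45, []), (46, []), (47, []), (48, []), (49, []), (50, []), (51, []), (52, []), (53, []),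 (54, []), (55, []), (56, []), (57, []), (58, []), (59, []), (60, []), (61, []), (62, []), (63, []), (64, []), (65, []), (66, []), (67, []), (68, []), (69, []), (70, []), (71, []), (72, []), (73, []), (74, []), (75, []), (76, []), (77, []), (78, []), (79, []), (80, []), (81, []), (82, []), (83, []), (84, []), (85, []), (86, []), (87, []), (88, []), (89, []), (90, []), (91, []), (92, []), (93, []), (94, []), (95, []), (96, []), (97, []), (98, []), (99, []), (100, []), (101, []), (102, []), (103, []), (104, []), (105, []), (106, []), (107, []), (108, []), (109, []), (110, []), (111, []), (112, []), (113, []), (114, []), (115, []), (116, []), (117, []), (118, []), (119, []), (120, []), (121, []), (122, []), (123, []), (124, []), (125, []), (0, [4]), (5, []), (9, []), (13, []), (17, []), (1, []), (23, []), (7, [2, 2, 1, 1, 2, 1, 2, 2]), (28, []), (2, []), (33, []), (37, []), (41, []), (3, []), (46,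 []), (49, []), (53, []), (4, []), (57, []), (60, []), (64, []), (42, [2, 2, 2, 1, 1, 1, 2, 4]), (68, []), (6, []), (72, []), (76, []), (78, []), (81, []), (8, []), (82, []), (31, [2, 2, 1, 4, 1]), (30, [1, 4, 2, 1, 1, 4]), (88, []), (10, []), (34, [4, 1, 1, 2, 1]), (92, []), (71, [4, 2, 1, 2, 4]), (11, []), (97, []), (69, [2, 1, 4, 2, 1, 1, 1]), (99, []), (12, []), (21, [2, 1, 1, 4, 1, 2, 4]), (98, [1, 2, 1, 1, 2, 1, 2, 2]), (94, [2, 2, 1, 2, 1, 1, 2, 4]), (104, []), (14, []), (73, [2, 1, 2, 1, 2, 1, 1, 2, 2]), (58, [2, 1, 2, 1, 1, 2, 2]), (15, []), (77, [1, 1, 1]), (59, [1, 4, 2, 1, 4]), (109, []), (16, []), (106, [2, 2, 2, 1]), (112, []), (113, []), (18, []), (48, [4, 2, 1, 4, 1, 2, 2]), (51, [2, 1, 4, 2, 1, 2, 4]), (19, []), (107, [4, 2, 1, 1, 1, 2, 2, 2, 4]), (116, []), (117, []), (20, []), (95, [1, 4, 2, 2, 2, 1, 2]), (66, [2, 1, 2, 1]), (100, [2, 2, 2, 1, 1, 1, 2, 4]), (22, []), (39, [4,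 1, 1, 1, 4, 1, 2, 2]), (114, [1, 1, 1, 4, 2, 1, 1, 1, 2, 2, 2]), (36, [4, 1, 2, 1, 2, 1, 4]), (24, []), (47, [1, 1, 1, 4, 2, 1, 2, 2, 4]), (121, []), (83, [1, 4, 2, 2, 2, 1, 2, 4]), (25, []), (50, [1, 1, 1, 1, 1]), (26, []), (79, [1, 1, 1, 1]), (122, [2, 2, 2, 1, 4]), (27, []), (29, []), (75, [1, 4, 2, 2, 2, 1, 2]), (119, [1, 2, 1, 4, 1, 4, 1, 2]), (87, [2, 1, 1, 4, 1, 2]), (102, [2, 1, 1, 1, 2]), (85, [1, 2, 2, 2, 1, 1, 1, 4]), (32, []), (91, [1, 1, 1, 1, 4]), (90, [4, 1, 1, 2, 1]), (89, [2, 2, 1, 1, 4]), (35, []), (108, [4, 1, 1]), (44, [2, 2, 1, 4, 1, 2]), (65, [1, 4, 2, 2, 2, 1, 2, 4]), (115, [1, 4, 1, 4, 1, 4]), (38, []), (43, [1, 1, 2, 1, 2, 1, 2, 2]), (40, []), (67, [2, 1, 1, 4, 1, 2, 4]), (105, [2, 1, 2, 1, 2, 1, 1, 2, 2, 2]), (86, [4, 2, 1, 1, 4, 1, 2, 2, 2, 4]), (110, [2, 1, 2, 1, 2, 2, 2, 4]), (45, []), (101, [2, 1, 4, 2, 2, 1, 2, 4]), (54, [1, 2, 2, 1, 1, 2, 2, 2, 4]), (61, [2, 1,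 1, 1, 1, 1, 2, 2, 2]), (93, [2, 2, 1, 1, 2, 2, 4]), (52, []), (103, [1, 4, 2, 1, 2, 2, 4]), (124, [2, 1, 2, 2, 2]), (55, []), (56, []), (70, [1, 1, 1, 4, 2, 1, 1, 1, 2, 2, 2, 4]), (96, [2, 1, 2, 1, 2, 1, 1, 2, 2, 4]), (62, []), (63, []), (123, [4, 1, 4, 1, 2, 1, 2, 2, 2]), (84, [1, 4, 1, 2, 1, 1, 2]), (125, [1, 4, 2, 2, 1]), (74, []), (80, [4, 1, 2, 2, 1, 1, 2, 2, 2, 4]), (118, [1, 1, 1, 4, 2, 1, 4]), (111, [4, 2, 1, 2, 2, 1, 1, 2]), (120, [1, 4, 1, 1, 1])]⟩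

/-- Level 1. -/
def lev1 : StabCert.Lev :=
  ⟨54, [1, 2, 3, 4],
   [[], [1], [1, 1], [2, 1], [4, 1], [1, 1, 1], [2, 1, 1], [4, 1, 1], [1, 2, 1], [2, 2, 1], [4, 2, 1], [1, 4, 1], [1, 1, 1, 1], [2, 1, 1, 1], [4, 1, 1, 1], [1, 2, 1, 1], [2, 2, 1, 1], [4, 2, 1, 1], [1, 1, 2, 1], [2, 1, 2, 1], [4, 1, 2, 1], [1, 2, 2, 1], [2, 2, 2, 1], [4, 2, 2, 1], [1, 4, 2, 1], [1, 1, 4, 1], [2, 1, 4, 1], [4, 1, 4, 1], [1, 1, 1, 1, 1], [2, 1, 1, 1, 1], [2, 2, 1, 1, 1], [4, 2, 1, 1, 1], [1, 4, 1, 1, 1], [2, 1, 2, 1, 1], [4, 1, 2, 1, 1], [1, 2, 2, 1, 1], [2, 2, 2, 1, 1], [1, 4, 2, 1, 1], [2, 1, 1, 2, 1], [4, 1, 1, 2, 1], [1, 2, 1, 2, 1], [4, 2, 1, 2, 1], [1, 4, 1, 2, 1], [1, 1, 2, 2, 1], [4, 1, 2, 2, 1], [1, 2, 2, 2, 1], [4, 2, 2, 2, 1], [1, 4, 2, 2, 1], [1, 1, 4, 2, 1], [2, 1, 4, 2, 1], [4, 1, 4, 2, 1], [1, 1, 1, 4, 1], [2, 1, 1, 4, 1], [4, 1, 1, 4, 1], [2, 2, 1, 4, 1], [4, 2, 1, 4, 1], [1, 4, 1, 4, 1], [2, 1, 1,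 1, 1, 1], [4, 1, 1, 1, 1, 1], [1, 2, 2, 1, 1, 1], [2, 2, 2, 1, 1, 1], [4, 2, 2, 1, 1, 1], [1, 4, 2, 1, 1, 1], [1, 1, 4, 1, 1, 1], [1, 2, 1, 2, 1, 1], [2, 2, 1, 2, 1, 1], [4, 2, 1, 2, 1, 1], [1, 4, 1, 2, 1, 1], [2, 1, 2, 2, 1, 1], [4, 1, 2, 2, 1, 1], [1, 2, 2, 2, 1, 1], [4, 1, 4, 2, 1, 1], [1, 2, 1, 1, 2, 1], [2, 2, 1, 1, 2, 1], [4, 2, 1, 1, 2, 1], [1, 1, 2, 1, 2, 1], [4, 1, 2, 1, 2, 1], [4, 1, 4, 1, 2, 1], [1, 1, 1, 2, 2, 1], [2, 1, 2, 2, 2, 1], [1, 4, 2, 2, 2, 1], [2, 1, 4, 2, 2, 1], [4, 1, 4, 2, 2, 1], [1, 1, 1, 4, 2, 1], [1, 2, 1, 4, 2, 1], [4, 2, 1, 4, 2, 1], [2, 1, 1, 1, 4, 1], [4, 1, 1, 1, 4, 1], [1, 2, 1, 1, 4, 1], [4, 2, 1, 1, 4, 1], [2, 2, 2, 1, 4, 1], [4, 2, 2, 1, 4, 1], [1, 4, 2, 1, 4, 1], [2, 1, 4, 1, 4, 1], [1, 2, 1, 1, 1, 1, 1], [4, 2, 1, 1, 1, 1, 1], [2, 1, 2, 2, 1, 1, 1], [4, 1, 2, 2, 1, 1, 1], [1, 2, 2, 2, 1, 1, 1], [1, 1, 4, 2, 1, 1, 1], [2, 1, 4, 2, 1, 1, 1], [1, 1, 1, 4,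 1, 1, 1], [2, 1, 2, 1, 2, 1, 1], [4, 1, 2, 1, 2, 1, 1], [1, 2, 2, 1, 2, 1, 1], [4, 1, 4, 1, 2, 1, 1], [1, 2, 1, 2, 2, 1, 1], [4, 2, 1, 2, 2, 1, 1], [4, 1, 2, 2, 2, 1, 1], [4, 2, 2, 1, 1, 2, 1], [1, 4, 2, 1, 1, 2, 1], [2, 1, 1, 2, 1, 2, 1], [4, 1, 1, 2, 1, 2, 1], [1, 4, 1, 2, 1, 2, 1], [2, 2, 1, 2, 2, 2, 1], [1, 1, 4, 2, 2, 2, 1], [1, 2, 1, 4, 2, 2, 1], [4, 2, 1, 4, 2, 2, 1], [2, 1, 2, 1, 4, 2, 1], [1, 2, 1, 4, 1, 4, 1], [4, 2, 1, 2, 2, 1, 1, 1], [1, 1, 1, 4, 2, 1, 1, 1], [2, 1, 1, 4, 2, 1, 1, 1], [1, 4, 2, 2, 1, 1, 2, 1], [4, 2, 1, 1, 2, 1, 2, 1]],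
   [(1, []), (2, []), (5, []), (8, []), (11, []), (12, []), (15, []), (7, [2, 4]), (18, []), (21, []), (24, []), (25, []), (28, []), (22, [2, 4]), (32, []), (14, [2, 2]), (35, []), (37, []), (33, [4]), (40, []), (42, []), (43, []), (45, []), (47, []), (48, []), (51, []), (29, [2, 2, 2, 4]), (56, []), (16, [2, 2]), (41, [2, 2]), (59, []), (62, []), (63, []), (64, []), (67, []), (0, [2, 2, 4]), (70, []), (69, [4]), (72, []), (6, [2, 2, 4]), (75, []), (4, [4]), (52, [2, 4]), (78, []), (38, [4]), (34, [2, 2, 4]), (80, []), (17, [2, 2, 4]), (83, []), (84, []), (30, [2, 2, 2, 4]), (61, []), (88, []), (39, []), (86, [4]), (92, []), (90, [2, 2, 2]), (94, []), (79, [4]), (23, []), (98, []), (26, [2, 2, 2]), (99, []), (101, []), (57, [2]), (104, []), (27, []), (96, [2, 2, 2, 4]), (106, []), (50, [2, 2, 2, 4]), (58, [2, 2]), (93, [2, 4]), (105, [2, 2, 4]), (102, []), (110, []), (87, [2, 2, 2, 4]), (113,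 []), (111, [2, 2, 4]), (36, [2, 2, 4]), (9, [4]), (115, []), (116, []), (3, [2, 2, 2]), (109, []), (68, []), (76, [4]), (49, [2, 2, 4]), (91, [2, 4]), (71, [2, 2, 4]), (112, [2, 2, 2]), (89, [2, 2, 4]), (85, [2, 4]), (54, [2, 4]), (119, []), (82, []), (10, [2]), (100, [2, 2]), (107, [2]), (108, [2, 2, 4]), (121, []), (103, [2, 4]), (53, []), (46, []), (13, [2, 2, 2, 4]), (73, [2, 2]), (114, [2, 2, 2]), (55, [2]), (66, [2, 2, 4]), (44, [2, 2, 2]), (123, []), (31, [2, 2, 2]), (81, [2, 2, 2]), (97, [2, 4]), (19, [2, 2, 2]), (60, [2, 2]), (117, [2, 2, 4]), (77, [2, 2, 2]), (65, []), (20, [4]), (118, [4]), (95, [2, 2]), (122, [2]), (124, [2]), (120, [2, 4]), (74, [2, 2, 2]), (0, [2]), (3, []), (6, []), (9, []), (10, []), (13, []), (16, []), (17, []), (19, []), (22, []), (23, []), (26, []), (29, []), (30, []), (31, []), (33, []), (36, []), (12, [4]), (38, []), (24, [2, 2, 4]), (41, []), (18, [2, 4]),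 (4, []), (46, []), (49, []), (52, []), (54, []), (55, []), (57, []), (2, [4]), (60, []), (61, []), (42, [2, 4]), (65, []), (66, []), (68, []), (7, []), (34, [2]), (73, []), (74, []), (35, [2]), (50, [2, 2, 4]), (64, [2, 2, 2, 4]), (40, [2]), (39, [2, 4]), (79, []), (1, []), (81, []), (77, [2, 4]), (20, [2, 2]), (85, []), (86, []), (58, []), (89, []), (90, []), (91, []), (93, []), (25, []), (95, []), (96, []), (14, []), (98, [2, 2, 2, 4]), (100, []), (76, [2]), (102, []), (37, [2, 2, 2, 4]), (94, [2, 2, 2, 4]), (78, [4]), (63, [2, 2, 4]), (107, []), (92, [2, 2, 2]), (15, [2]), (106, []), (44, [2, 2, 2]), (109, []), (111, []), (69, [2]), (103, [2, 2, 2, 4]), (99, [2]), (114, []), (84, [2, 4]), (83, [2]), (117, []), (104, [2, 2, 2]), (118, []), (8, [2, 2]), (75, [4]), (110, [2, 2, 2]), (32, [2, 2]), (28, []), (27, []), (113, [2, 2, 2]), (72, [2, 2, 2]), (47, [2]), (71, []), (53, []), (119, [2,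 2, 2]), (120, []), (5, [2]), (122, []), (116, [2, 4]), (59, [2, 4]), (48, [4]), (88, [2, 2]), (82, [4]), (45, [2]), (108, [2, 2]), (43, [2, 2, 4]), (62, [2, 2, 4]), (21, [2, 2, 2]), (112, [2]), (87, [4]), (124, []), (11, [2, 4]), (67, [2, 2, 2, 4]), (97, [2, 4]), (70, [2, 4]), (56, [2, 2, 2, 4]), (121, [4]), (115, []), (123, [2]), (80, [2, 2, 2]), (105, [2, 2, 2]), (101, [2, 2]), (51, [4]), (0, []), (1, []), (2, []), (3, []), (4, []), (5, []), (6, []), (7, []), (8, []), (9, []), (10, []), (11, []), (12, []), (13, []), (14, []), (15, []), (16, []), (17, []), (18, []), (19, []), (20, []), (21, []), (22, []), (23, []), (24, []), (25, []), (26, []), (27, []), (28, []), (29, []), (30, []), (31, []), (32, []), (33, []), (34, []), (35, []), (36, []), (37, []), (38, []), (39, []), (40, []), (41, []), (42, []), (43, []), (44, []), (45, []), (46, []), (47, []), (48, []), (49, []), (50, []), (51, []),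 (52, []), (53, []), (54, []), (55, []), (56, []), (57, []), (58, []), (59, []), (60, []), (61, []), (62, []), (63, []), (64, []), (65, []), (66, []), (67, []), (68, []), (69, []), (70, []), (71, []), (72, []), (73, []), (74, []), (75, []), (76, []), (77, []), (78, []), (79, []), (80, []), (81, []), (82, []), (83, []), (84, []), (85, []), (86, []), (87, []), (88, []), (89, []), (90, []), (91, []), (92, []), (93, []), (94, []), (95, []), (96, []), (97, []), (98, []), (99, []), (100, []), (101, []), (102, []), (103, []), (104, []), (105, []), (106, []), (107, []), (108, []), (109, []), (110, []), (111, []), (112, []), (113, []), (114, []), (115, []), (116, []), (117, []), (118, []), (119, []), (120, []), (121, []), (122, []), (123, []), (124, []), (0, [4]), (4, []), (7, []), (10, []), (1, []), (14, []), (17, []), (2, []), (20, []), (23, []), (3, []), (27, []), (16, [4]), (31, []), (5, []), (34,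 []), (12, [4]), (6, []), (39, []), (41, []), (8, []), (44, []), (46, []), (9, []), (50, []), (53, []), (55, []), (11, []), (58, []), (36, [4]), (61, []), (13, []), (48, []), (66, []), (15, []), (69, []), (29, [4]), (71, []), (74, []), (18, []), (76, []), (19, []), (77, []), (63, []), (21, []), (78, [2, 2, 2]), (22, []), (82, []), (32, []), (85, []), (24, []), (87, []), (89, []), (25, []), (91, []), (26, []), (83, [2, 2]), (95, []), (28, []), (97, []), (98, [2, 2, 2, 4]), (30, []), (92, [2, 4]), (43, []), (103, []), (94, [2, 2, 2, 4]), (33, []), (105, []), (107, []), (35, []), (108, []), (37, []), (100, []), (109, []), (38, []), (112, []), (40, []), (42, []), (45, [2, 4]), (99, [4]), (80, [4]), (117, []), (47, []), (56, [2, 2, 4]), (84, [4]), (49, []), (110, [2, 2, 2]), (51, []), (102, [2, 2, 4]), (52, []), (113, [2, 2, 2]), (54, []), (62, [2, 2, 2]), (104, [2, 4]), (65, [2]), (57, []), (120,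 []), (59, []), (60, [2]), (79, [4]), (72, []), (115, []), (88, [2, 2]), (64, []), (93, [2, 2, 2]), (67, []), (116, [2, 4]), (68, []), (70, []), (73, []), (86, [2, 4]), (124, []), (75, []), (90, [2, 4]), (122, [4]), (101, []), (106, [2, 2, 2]), (81, []), (118, [4]), (123, [2, 2, 4]), (96, []), (121, [4]), (114, [4]), (119, [2, 2]), (111, [])]⟩

/-- Level 2. -/
def lev2 : StabCert.Lev :=
  ⟨55, [2, 3, 4],
   [[], [2], [2, 2], [2, 2, 2]],
   [(1, []), (2, []), (3, []), (0, [4]), (0, []), (1, []), (2, []), (3, []), (0, [4]), (1, [4]), (2, [4]), (3, [4])]⟩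

/-- Level 3. -/
def lev3 : StabCert.Lev :=
  ⟨59, [4],
   [[], [4]],
   [(1, []), (0, [])]⟩

/-- The certificate. -/
def data : PSUData 5 2 0 3 where
  mats := mats
  matsT := matsT
  cols := cols
  colsT := colsT
  imgs := imgs
  imgsT := imgsT
  us := us
  lefts := lefts
  rights := rights
  dL := 53
  dR := 126
  w := 8
  tab := tab
  fx := [0, 50, 52]
  Bl := [52, 50, 0, 7, 6, 5, 4, 3, 2, 1, 40, 23, 35, 31, 8, 45, 28, 47, 41, 25, 46, 19, 21, 39]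
  combos := [[35, -35, -10, -5, -5, -5, -5, -5, -5, -5, 0, 0, 0, 0, 0, 0, 0, 0, 0, 0, 0, 0, 0, 0], [-5, 5, 10, -25, 5, 5, 5, 5, 5, 5, 0, 0, 0, 0, 0, 0, 0, 0, 0, 0, 0, 0, 0, 0], [-5, 5, 10, 5, -25, 5, 5, 5, 5, 5, 0, 0, 0, 0, 0, 0, 0, 0, 0, 0, 0, 0, 0, 0], [-5, 5, 10, 5, 5, -25, 5, 5, 5, 5, 0, 0, 0, 0, 0, 0, 0, 0, 0, 0, 0, 0, 0, 0], [-5, 5, 10, 5, 5, 5, -25, 5, 5, 5, 0, 0, 0, 0, 0, 0, 0, 0, 0, 0, 0, 0, 0, 0], [127, -73, -38, 11, 11, 11, 5, -7, -31, -7, -12, -18, 0, -18, -18, 0, -12, -18, -6, -36, -12, -6, 0, -12], [-13, 7, 2, 1, 1, 1, 25, -47, 79, -47, -42, 12, -30, 12, 12, -30, -42, 12, -36, 84, 48, -36, 0, 48], [-5, 5, 10, 5, 5, 5, 5, -25, 5, 5, 0, 0, 0, 0, 0, 0, 0, 0, 0, 0, 0, 0, 0, 0], [-13, 7, 2, 1, 1, 1, -5, 13, -11, 13, 18, -18, 0, 12, 12, 0, -12, 12, -6, -6, -12, 24, 0, -12], [-13, 7, 2, 1, 1, 1, -5, 13, -41, 43, 18, -18, 30, -18, 12, 0, 18, -18, 24, -36, -12, 24, 0, -12], [-5, 5, 10,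 5, 5, 5, 5, 5, -25, 5, 0, 0, 0, 0, 0, 0, 0, 0, 0, 0, 0, 0, 0, 0], [-13, 7, 2, 1, 1, 1, -5, 13, -11, 13, 18, 12, 0, 12, -18, 0, 18, -18, 24, -36, -12, 24, 0, -12], [-5, 5, 10, 5, 5, 5, 5, 5, 5, -25, 0, 0, 0, 0, 0, 0, 0, 0, 0, 0, 0, 0, 0, 0], [-13, 7, 2, 1, 1, 1, -5, 13, -11, 13, -12, 12, 0, -18, 12, 0, 18, 12, 24, -6, -12, -6, 0, -12], [127, -73, -38, 11, 11, 11, 5, 53, -31, -67, -12, 12, -30, -18, -48, 30, 48, -18, -6, -36, -42, 24, -60, -12], [-13, 7, 2, 1, 1, 1, 25, -17, 49, -47, -42, 12, -30, 12, 12, 0, -12, 12, -36, 54, 18, -36, 0, 48], [-13, 7, 2, 1, 1, 1, -5, -17, 19, 13, 18, 12, 0, 12, 12, 0, -12, -18, -6, -6, 18, -6, 0, -12], [-153, 87, 42, -9, -9, -9, -15, -27, 9, 93, 48, -18, 30, 12, 42, -30, -12, 12, 24, 24, 18, -6, 60, -12], [-13, 7, 2, 1, 1, 1, 25, -47, 49, -17, -12, 12, 0, 12, 12, -30, -42, 12, -36, 54, 18, -36, 0, 48], [-13, 7, 2, 1, 1, 1, -5, -17, -11, 43, 18, -18, 30, 12, 12,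 0, -12, -18, 24, -6, -12, -6, 0, -12], [-13, 7, 2, 1, 1, 1, -5, 43, -11, -17, -12, 12, 0, -18, -18, 30, 18, 12, -6, -6, -12, 24, 0, -12], [-13, 7, 2, 1, 1, 1, -5, 13, 19, -17, -12, 12, 0, 12, -18, 0, 18, 12, -6, -6, 18, -6, 0, -12], [-13, 7, 2, 1, 1, 1, -5, 43, -41, 13, 18, -18, 0, -18, -18, 30, 18, 12, 24, -36, -12, 24, 0, -12], [35, -5, -10, -5, -5, -5, -5, -5, -5, -5, 0, 0, 0, 0, 0, 0, 0, 0, 0, 0, 0, 0, 0, 0]]
  den := 15
  Br := [102, 150, 139, 67]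
  winv := [[13, 21, 11], [23, 20, 2], [20, 14, 17]]
  chain := [lev0, lev1, lev2, lev3]

end Cfsg.Agent.Leech.PSU35
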