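import Cfsg.Agent.Lib.Leech.PSU35.Checks
import Cfsg.Agent.Lib.Leech.Co3RankFive

/-!
# The stabiliser of one of 352 points in the Higman–Sims group is `PSU(3,5)`

* `nonempty_mulEquiv_psu35`
-/

set_option autoImplicit false

open scoped Matrix

namespace Cfsg.Agent.Leech

open MulAction StabCert

theorem exists_hom_psu35 {F : Type} [Field F] [Fintype F] (hF : Fintype.card F = 5 ^ 2) :
    ∃ φ : Quad 5 2 0 →+* F, ∀ z, φ (star z) = φ z ^ 5 := by
  have : Fact (Nat.Prime 5) := ⟨by norm_num⟩
  have : CharP F 5 := charP_of_card_eq_prime_pow hF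
  have h5 : (5 : F) = 0 := by exact_mod_cast CharP.cast_eq_zero F 5
  have h20 : (2 : F) ≠ 0 := fun h => one_ne_zero (α := F) (by linear_combination h5 - 2 * h)
  obtain ⟨ω, hω⟩ : IsSquare (2 : F) := by
    refine (FiniteField.isSquare_iff (fun h => ?_) h20).2 ?_
    · rw [ringChar.eq F 5] at h; omega
    · rw [hF]
      norm_num
      linear_combination 819 * h5
  refine Quad.exists_hom hF ω ?_ ?_
  · push_cast
    linear_combination -hω
  · push_cast
    linear_combination -(ω ^ 3 + 2 * ω) * hω + ω * h5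

theorem natCard_hsPointStab : Nat.card (hsGroup ⊓ stabilizer Co0 (rep 0) : Subgroup Co0) = 126000 := by
  have h := ncard_orbit_mul hsGroup (rep 0)
  rw [show {y | ∃ a ∈ hsGroup, a • rep 0 = y} = MulAction.orbit hsGroup (rep 0) from
    Set.ext fun y => ⟨fun ⟨a, ha, e⟩ => ⟨⟨a, ha⟩, e⟩, fun ⟨a, e⟩ => ⟨a.1, a.2, e⟩⟩,
    ncard_hs_orbits, natCard_hsGroup] at h
  have h' : 352 * Nat.card (hsGroup ⊓ stabilizer Co0 (rep 0) : Subgroup Co0) = 44352000 := h
  omega

/-- The isomorphism. -/
theorem nonempty_mulEquiv_psu35 {F : Type} [Field F] [Fintype F] (hF : Fintype.card F = 25) :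
    Nonempty ((hsGroup ⊓ stabilizer Co0 (rep 0) : Subgroup Co0) ≃* Cfsg.PSU 3 F 5) := by
  have hF' : Fintype.card F = 5 ^ 2 := hF.trans (by norm_num)
  obtain ⟨φ, hφ⟩ := exists_hom_psu35 hF'
  refine PSUData.nonempty_mulEquiv (D := PSU35.data) hF' φ hφ PSU35.data_ok
    (Or.inr ⟨rfl, by norm_num⟩) (Quad.hom_injective (by decide +kernel) φ) _ ?_ ?_ ?_
  · intro g hg
    have e : ∀ i < 53, ((PSU35.data.leftV i : leechLattice) : GolayPt → ℤ) =
        vOf (PSU35.data.left i) := fun i hi => (PSUData.leftV_val PSU35.data_ok hi).1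
    have e0 : PSU35.data.leftV 0 = rep 0 := Subtype.ext ((e 0 (by norm_num)).trans
      (by decide +kernel : vOf (PSU35.data.left 0) = repVec 0))
    have e1 : PSU35.data.leftV 50 = baseU' := Subtype.ext ((e 50 (by norm_num)).trans
      (by decide +kernel))
    have e2 : PSU35.data.leftV 52 = baseF := Subtype.ext ((e 52 (by norm_num)).trans
      (by decide +kernel))
    refine ⟨⟨?_, ?_⟩, ?_⟩
    · exact mem_stabilizer_iff.2 (e2 ▸ hg 52 (by decide))
    · exact mem_stabilizer_iff.2 (e1 ▸ hg 50 (by decide))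
    · exact mem_stabilizer_iff.2 (e0 ▸ hg 0 (by decide))
  · rw [natCard_hsPointStab]
    decide +kernel
  · have h := Unitary.card_PSU (n := 3) hF' (by norm_num)
    have e : (PSU35.data.chain.map fun L => L.words.length).prod = 126000 := by decide +kernel
    rw [e]
    simp [Finset.prod_range_succ, Nat.even_iff] at h
    omega

end Cfsg.Agent.Leech
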